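import Cfsg.Agent.Lib.Classical.SUThreeSmall.Frames
import Cfsg.Agent.Lib.Classical.FieldSubalgebra

/-!
# Normalisers of cyclic cubic fields
-/

set_option autoImplicit false
set_option linter.unusedSectionVars false
set_option linter.style.haveILetI false
set_option maxHeartbeats 400000

namespace Cfsg.Agent.Classical.SUThree

open Matrix Cfsg.Geo

variable {K : Type*} [Field K] [Fintype K] {p : ℕ} {σ : K ≃+* K} {r : K}

theorem card_suGL (hσ : IsUSigma p σ) :
    (p + 1) * Nat.card (suGL 3 K p) = Nat.card (GU 3 K p) := by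
  have e : Nat.card (suGL 3 K p) = Nat.card (Cfsg.SU 3 K p) := by
    refine (Nat.card_congr ?_).trans (Nat.card_congr (UCount.suEquiv hσ 3).toEquiv)
    exact
      { toFun := fun g => ⟨⟨g.1, g.2.1⟩, MonoidHom.mem_ker.mpr (Subtype.ext (MonoidHom.mem_ker.mp g.2.2))⟩
        invFun := fun g => ⟨g.1.1, g.1.2, MonoidHom.mem_ker.mpr
          (congrArg Subtype.val (MonoidHom.mem_ker.mp g.2))⟩
        left_inv := fun g => rfl
        right_inv := fun g => rfl }
  rw [e, UCount.card_SU hσ (by norm_num)]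

theorem card_suGL_three (hσ : IsUSigma 3 σ) : Nat.card (suGL 3 K 3) = 6048 := by
  have h := card_suGL hσ
  rw [UCount.card_GU hσ] at h
  generalize Nat.card (suGL 3 K 3) = c at h ⊢
  simp [Finset.prod_range_succ, parity_simps] at h
  omega

theorem card_suGL_five (hσ : IsUSigma 5 σ) : Nat.card (suGL 3 K 5) = 378000 := by
  have h := card_suGL hσ
  rw [UCount.card_GU hσ] at h
  generalize Nat.card (suGL 3 K 5) = c at h ⊢
  simp [Finset.prod_range_succ, parity_simps] at h
  omega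

/-- Subgroups of full Sylow order are conjugate. -/
theorem exists_conj_full {M : Type*} [Group M] [Finite M] {G A B : Subgroup M} (hA : A ≤ G) (hB : B ≤ G) {ℓ a : ℕ}
    (hℓ : ℓ.Prime) (hcA : Nat.card A = ℓ ^ a) (hcB : Nat.card B = ℓ ^ a)
    (hdvd : ¬ ℓ ^ (a + 1) ∣ Nat.card G) : ∃ g ∈ G, ∀ x, x ∈ A ↔ g⁻¹ * x * g ∈ B := by
  classical
  haveI : Fact ℓ.Prime := ⟨hℓ⟩
  have key : ∀ X : Subgroup M, X ≤ G → Nat.card X = ℓ ^ a → ∃ P : Sylow ℓ G, (P : Subgroup G) = X.subgroupOf G := by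
    intro X hX hc
    have hc' : Nat.card (X.subgroupOf G) = ℓ ^ a := by
      rw [Nat.card_congr (Subgroup.subgroupOfEquivOfLe hX).toEquiv, hc]
    obtain ⟨P, hP⟩ := (IsPGroup.of_card hc').exists_le_sylow
    obtain ⟨b, hb⟩ := IsPGroup.iff_card.mp P.2
    have hba : b ≤ a := by
      by_contra hlt
      exact hdvd ((pow_dvd_pow ℓ (Nat.lt_of_not_le hlt)).trans (hb ▸ Subgroup.card_subgroup_dvd_card _))
    exact ⟨P, (Subgroup.eq_of_le_of_card_ge hP
      (by rw [hb, hc']; exact Nat.pow_le_pow_right hℓ.pos hba)).symm⟩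
  obtain ⟨PA, hPA⟩ := key A hA hcA
  obtain ⟨PB, hPB⟩ := key B hB hcB
  obtain ⟨g, hg⟩ := MulAction.exists_smul_eq (↥G) PB PA
  refine ⟨g, g.2, fun x => ⟨fun hx => ?_, fun hx => ?_⟩⟩
  · have hx' : (⟨x, hA hx⟩ : G) ∈ (PA : Subgroup G) := by rw [hPA]; exact hx
    rw [← hg, Sylow.coe_subgroup_smul, Subgroup.mem_pointwise_smul_iff_inv_smul_mem] at hx'
    change _ ∈ (PB : Subgroup G) at hx'
    rw [hPB, Subgroup.mem_subgroupOf] at hx'
    simpa [MulAut.smul_def, MulAut.conj_symm_apply, mul_assoc] using hx'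
  · have hxG : x ∈ G := by
      have := hB hx
      simpa [mul_assoc] using G.mul_mem (G.mul_mem g.2 this) (G.inv_mem g.2)
    have hx' : (⟨x, hxG⟩ : G) ∈ (PA : Subgroup G) := by
      rw [← hg, Sylow.coe_subgroup_smul, Subgroup.mem_pointwise_smul_iff_inv_smul_mem]
      show _ ∈ (PB : Subgroup G)
      rw [hPB, Subgroup.mem_subgroupOf]
      simpa [MulAut.smul_def, MulAut.conj_symm_apply, mul_assoc] using hx
    rw [hPA] at hx'
    exact hx'

variable (hp : Small p) (hσ : IsUSigma p σ) (hr : r * r = 2)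

include hp hσ hr

/-- An element of order seven of the field is neither scalar nor quadratic, and is unitary. -/
theorem seven_unitary {L : Subalgebra K (Matrix (Fin 3) (Fin 3) K)} (hL : IsFieldSubalgebra 3 L)
    (hLadj : IsAdjointClosedFor (hermForm 3 K p) L) :
    ∃ y : GL (Fin 3) K, y ∈ suGL 3 K p ∧ (y : Matrix (Fin 3) (Fin 3) K) ∈ L ∧ orderOf y = 7 ∧
      ∀ x ∈ L, x ^ 7 = 1 → ∃ b < 7, x = (y : Matrix (Fin 3) (Fin 3) K) ^ b := by
  classical
  obtain ⟨w, hwL, -, hgen, hord⟩ := exists_generator_fieldSubalgebra hL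
  rw [Nat.card_eq_fintype_card, hσ.card] at hord
  obtain ⟨m, hm, hN⟩ : ∃ m, 0 < m ∧ (p ^ 2) ^ 3 - 1 = 7 * m := by
    rcases hp with rfl | rfl
    exacts [⟨104, by norm_num, by norm_num⟩, ⟨2232, by norm_num, by norm_num⟩]
  set Y : Matrix (Fin 3) (Fin 3) K := w ^ m with hY
  have hY7 : Y ^ 7 = 1 := by rw [hY, ← pow_mul, hord, hN, mul_comm 7]
  have hY1 : Y ≠ 1 := fun h => by
    rw [hY, hord, hN] at h
    have := Nat.le_of_dvd hm h
    omega
  have hYL : Y ∈ L := L.pow_mem hwL m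
  have hroots : ∀ x ∈ L, x ^ 7 = 1 → ∃ b < 7, x = Y ^ b := by
    intro x hx hx7
    have hx0 : x ≠ 0 := fun h0 => by rw [h0, zero_pow (by norm_num)] at hx7; exact zero_ne_one hx7
    obtain ⟨a, rfl⟩ := hgen x hx hx0
    rw [← pow_mul, hord, hN, mul_comm a] at hx7
    obtain ⟨b, rfl⟩ := Nat.dvd_of_mul_dvd_mul_left (by norm_num) hx7
    refine ⟨b % 7, Nat.mod_lt _ (by norm_num), ?_⟩
    rw [pow_mul, ← hY, ← Nat.mod_add_div b 7, pow_add, pow_mul, hY7, one_pow, mul_one, Nat.add_mul_mod_self_left,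
      Nat.mod_mod]
  -- the adjoint
  obtain ⟨Y', hY'L, hY'⟩ := hLadj Y hYL
  have hadj : ∀ M N : Matrix (Fin 3) (Fin 3) K, (∀ u v, hermForm 3 K p (M *ᵥ u) v = hermForm 3 K p u (N *ᵥ v)) →
      N = (M.map σ)ᵀ := by
    intro M N h
    ext i j
    have e := h (Pi.single i 1) (Pi.single j 1)
    rw [hσ.hermForm_single, hσ.isUnitaryForm.herm, hσ.hermForm_single] at e
    simp only [mulVec_single_one, one_mul, hσ.involutive] at e
    have e' := congrArg σ e
    rw [hσ.involutive] at e'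
    simpa using e'.symm
  have hY't := hadj Y Y' hY'
  have hY'7 : Y' ^ 7 = 1 := by
    rw [hY't, ← transpose_pow, show (Y.map σ) ^ 7 = (Y ^ 7).map σ from
      (map_pow (σ : K →+* K).mapMatrix Y 7).symm, hY7, Matrix.map_one _ (map_zero σ) (map_one σ), transpose_one]
  obtain ⟨a, ha, haY⟩ := hroots Y' hY'L hY'7
  -- powers are distinct
  have hinj : ∀ a b, Y ^ a = Y ^ b → a % 7 = b % 7 := by
    intro a b e
    haveI : Fact (Nat.Prime 7) := ⟨by norm_num⟩
    have hu : IsUnit Y := IsUnit.of_pow_eq_one hY7 (by norm_num)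
    obtain ⟨u, hu⟩ := hu
    have ho : orderOf u = 7 := orderOf_eq_prime (Units.ext (by rw [Units.val_pow_eq_pow_val, hu, hY7, Units.val_one]))
      fun h => hY1 (by rw [← hu, h, Units.val_one])
    rw [← hu, ← Units.val_pow_eq_pow_val, ← Units.val_pow_eq_pow_val] at e
    have := pow_eq_pow_iff_modEq.mp (Units.ext e)
    rwa [ho] at this
  have hsq : (a * a) % 7 = 1 := by
    refine (hinj (a * a) 1 ?_).trans rfl
    rw [pow_one, pow_mul, ← haY, hY't, ← transpose_pow, show (Y.map σ) ^ a = (Y ^ a).map σ from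
      (map_pow (σ : K →+* K).mapMatrix Y a).symm, ← haY, hY't]
    ext i j
    simp [hσ.involutive]
  have ha' : a = 1 ∨ a = 6 := by
    have h : ∀ a < 7, (a * a) % 7 = 1 → a = 1 ∨ a = 6 := by decide
    exact h a ha hsq
  -- no relation of degree two
  have hscal : ∀ c : K, Y ≠ c • 1 := by
    intro c hc
    have h7 : c ^ 7 = 1 := by
      have := congrFun (congrFun hY7 0) 0
      rw [hc, smul_pow, one_pow] at this
      simpa using this
    have hc0 : c ≠ 0 := fun h => by rw [h, zero_pow (by norm_num)] at h7; exact zero_ne_one h7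
    have hN' := FiniteField.pow_card_sub_one_eq_one c hc0
    rw [hσ.card] at hN'
    have hg : c ^ Nat.gcd 7 (p ^ 2 - 1) = 1 := pow_gcd_eq_one.mpr ⟨h7, hN'⟩
    rw [show Nat.gcd 7 (p ^ 2 - 1) = 1 by rcases hp with rfl | rfl <;> rfl, pow_one] at hg
    exact hY1 (by rw [hc, hg, one_smul])
  have hpp : p ≤ p * p := Nat.le_mul_self p
  have hquad : ∀ u v : K, Y * Y ≠ u • Y + v • 1 := by
    intro u v he
    obtain ⟨nu, hnu, rfl⟩ := el_surj hp hσ hr u
    obtain ⟨nv, hnv, rfl⟩ := el_surj hp hσ hr v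
    have hstep : ∀ k : ℕ, Y ^ k = el p r ((stepQ p nu nv)^[k] (0, 1)).1 • Y + el p r ((stepQ p nu nv)^[k] (0, 1)).2 • 1 := by
      intro k
      induction k with
      | zero => simp [el_zero, el_one hp hσ]
      | succ k ih =>
        rw [Function.iterate_succ_apply', pow_succ', ih, mul_add, mul_smul_comm, mul_smul_comm, he, stepQ]
        simp only [el_ad hp hσ, el_ml hp hσ hr, mul_one]
        module
    have hlt : ∀ k : ℕ, ((stepQ p nu nv)^[k] (0, 1)).1 < p * p ∧ ((stepQ p nu nv)^[k] (0, 1)).2 < p * p := by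
      intro k
      cases k with
      | zero => exact ⟨by have := hp.pos; positivity, by rcases hp with rfl | rfl <;> norm_num⟩
      | succ k => rw [Function.iterate_succ_apply']; exact ⟨ad_lt hp.pos _ _, ml_lt hp.pos _ _⟩
    have h7 := hstep 7
    obtain ⟨l1, l2⟩ := hlt 7
    rw [hY7] at h7
    set t := (stepQ p nu nv)^[7] (0, 1) with ht
    by_cases h1 : el p r t.1 = 0
    · rw [h1, zero_smul, zero_add] at h7
      have e1 : t.1 = 0 := el_inj hp hσ hr l1 (by have := hp.pos; positivity) (by rw [h1, el_zero])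
      have e2 : t.2 = 1 := el_inj hp hσ hr l2 (by rcases hp with rfl | rfl <;> norm_num) (by
        have := congrFun (congrFun h7 0) 0
        rw [el_one hp hσ]; simpa using this.symm)
      have hne : t ≠ (0, 1) := by
        rcases hp with rfl | rfl
        exacts [quad_three _ hnu _ hnv, quad_five _ hnu _ hnv]
      exact hne (Prod.ext e1 e2)
    · refine hscal ((el p r t.1)⁻¹ * (1 - el p r t.2)) ?_
      rw [← smul_smul, sub_smul, one_smul]
      nth_rewrite 1 [h7]
      rw [add_sub_cancel_right, smul_smul, inv_mul_cancel₀ h1, one_smul]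
  rcases ha' with rfl | rfl
  · exfalso
    rw [pow_one] at haY
    rw [haY] at hY't
    -- the coefficients of the characteristic polynomial are fixed
    have hfix : ∀ n, σ (Y.charpoly.coeff n) = Y.charpoly.coeff n := by
      intro n
      have e : (Y.map σ).charpoly = Y.charpoly := by rw [← charpoly_transpose, ← hY't]
      conv_rhs => rw [← e]
      rw [show Y.map σ = Y.map ⇑(σ : K →+* K) from rfl, charpoly_map, Polynomial.coeff_map]
      rfl
    have hdeg : Y.charpoly.natDegree = 3 := by rw [charpoly_natDegree_eq_dim, Fintype.card_fin]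
    have hlead : Y.charpoly.coeff 3 = 1 := by
      have h := (charpoly_monic Y).coeff_natDegree
      rwa [hdeg] at h
    have hlt : ∀ n, ∃ m < p, el p r m = -Y.charpoly.coeff n := by
      intro n
      obtain ⟨m, hm, he⟩ := el_surj hp hσ hr (-Y.charpoly.coeff n)
      exact ⟨m, hp.fix_lt hm (el_inj hp hσ hr (by rcases hp with rfl | rfl <;> simp [cj, force_eq] <;> omega) hm
        (by rw [el_cj hp hσ hr, he, map_neg, hfix])), he⟩
    obtain ⟨nu, hnu, heu⟩ := hlt 2
    obtain ⟨nv, hnv, hev⟩ := hlt 1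
    obtain ⟨nw, hnw, hew⟩ := hlt 0
    have hCH := aeval_self_charpoly Y
    rw [Polynomial.aeval_eq_sum_range, hdeg, Finset.sum_range_succ, Finset.sum_range_succ, Finset.sum_range_succ,
      Finset.sum_range_succ, Finset.sum_range_zero, zero_add, hlead, one_smul, pow_zero, pow_one] at hCH
    have he : Y * (Y * Y) = el p r nu • (Y * Y) + el p r nv • Y + el p r nw • 1 := by
      rw [heu, hev, hew, ← pow_two, ← pow_succ']
      rw [eq_neg_of_add_eq_zero_right hCH]
      simp only [neg_add, neg_smul]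
      abel
    have hstep : ∀ k : ℕ, Y ^ k = el p r ((stepC p nu nv nw)^[k] (0, 0, 1)).1 • (Y * Y) +
        el p r ((stepC p nu nv nw)^[k] (0, 0, 1)).2.1 • Y + el p r ((stepC p nu nv nw)^[k] (0, 0, 1)).2.2 • 1 := by
      intro k
      induction k with
      | zero => simp [el_zero, el_one hp hσ]
      | succ k ih =>
        rw [Function.iterate_succ_apply', pow_succ', ih, mul_add, mul_add, mul_smul_comm, mul_smul_comm,
          mul_smul_comm, he, stepC]
        simp only [el_ad hp hσ, el_ml hp hσ hr, mul_one]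
        module
    have hltk : ∀ k : ℕ, okV p ((stepC p nu nv nw)^[k] (0, 0, 1)) := by
      intro k
      cases k with
      | zero => rcases hp with rfl | rfl <;> simp [okV]
      | succ k => rw [Function.iterate_succ_apply']; exact ⟨ad_lt hp.pos _ _, ad_lt hp.pos _ _, ml_lt hp.pos _ _⟩
    have h7 := hstep 7
    obtain ⟨l1, l2, l3⟩ := hltk 7
    rw [hY7] at h7
    set t := (stepC p nu nv nw)^[7] (0, 0, 1) with ht
    have h1 : el p r t.1 = 0 := by
      by_contra h1
      refine hquad (-(el p r t.1)⁻¹ * el p r t.2.1) ((el p r t.1)⁻¹ * (1 - el p r t.2.2)) ?_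
      have h' : el p r t.1 • (Y * Y) = (1 - el p r t.2.2) • (1 : Matrix (Fin 3) (Fin 3) K) - el p r t.2.1 • Y := by
        rw [sub_smul, one_smul]
        nth_rewrite 1 [h7]
        abel
      rw [show Y * Y = (el p r t.1)⁻¹ • (el p r t.1 • (Y * Y)) by rw [smul_smul, inv_mul_cancel₀ h1, one_smul], h']
      module
    rw [h1, zero_smul, zero_add] at h7
    have h2 : el p r t.2.1 = 0 := by
      by_contra h2
      refine hscal ((el p r t.2.1)⁻¹ * (1 - el p r t.2.2)) ?_
      rw [← smul_smul, sub_smul, one_smul]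
      nth_rewrite 1 [h7]
      rw [add_sub_cancel_right, smul_smul, inv_mul_cancel₀ h2, one_smul]
    rw [h2, zero_smul, zero_add] at h7
    have e1 : t.1 = 0 := el_inj hp hσ hr l1 (by have := hp.pos; positivity) (by rw [h1, el_zero])
    have e2 : t.2.1 = 0 := el_inj hp hσ hr l2 (by have := hp.pos; positivity) (by rw [h2, el_zero])
    have e3 : t.2.2 = 1 := el_inj hp hσ hr l3 (by rcases hp with rfl | rfl <;> norm_num) (by
      have := congrFun (congrFun h7 0) 0
      rw [el_one hp hσ]; simpa using this.symm)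
    have hne : t ≠ (0, 0, 1) := by
      rcases hp with rfl | rfl
      exacts [cubic_three _ hnu _ hnv _ hnw, cubic_five _ hnu _ hnv _ hnw]
    exact hne (Prod.ext e1 (Prod.ext e2 e3))
  · have hinv : Y' * Y = 1 := by rw [haY, ← pow_succ, hY7]
    let y : GL (Fin 3) K := ⟨Y, Y', mul_eq_one_comm.mp hinv, hinv⟩
    have hy7 : y ^ 7 = 1 := Units.ext (by rw [Units.val_pow_eq_pow_val]; exact hY7)
    have hyGU : y ∈ GU 3 K p := mem_GU_iff.mpr fun u v => by
      rw [show (y : Matrix (Fin 3) (Fin 3) K) = Y from rfl, hY', mulVec_mulVec, hinv, one_mulVec]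
    have hdet : Y.det = 1 := by
      have h7 : Y.det ^ 7 = 1 := by rw [← det_pow, hY7, det_one]
      have hd0 : Y.det ≠ 0 := fun h => by rw [h, zero_pow (by norm_num)] at h7; exact zero_ne_one h7
      have hN' := FiniteField.pow_card_sub_one_eq_one Y.det hd0
      rw [hσ.card] at hN'
      have hg := pow_gcd_eq_one.mpr ⟨h7, hN'⟩
      rwa [show Nat.gcd 7 (p ^ 2 - 1) = 1 by rcases hp with rfl | rfl <;> rfl, pow_one] at hg
    refine ⟨y, ⟨hyGU, MonoidHom.mem_ker.mpr (Units.ext ?_)⟩, hYL, ?_, hroots⟩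
    · rw [GeneralLinearGroup.val_det_apply, Units.val_one]; exact hdet
    · haveI : Fact (Nat.Prime 7) := ⟨by norm_num⟩
      exact orderOf_eq_prime hy7 fun h => hY1 (congrArg Units.val h)

/-- The normaliser of a cubic field is not maximal, given certificates. -/
theorem field_not_max {n1 rep cub : List ℕ} {y₀ base bInv e z : M3} {pows : List M3} {mask : ℕ} {O : List V3}
    (hcase : caseOK p mask O e z)
    (hn1 : ∀ x ∈ n1, x < p * p ∧ ml p x (cj p x) = 1)
    (hrep : (∀ a < p * p, a ≠ 0 → ∃ c ∈ n1, ml p c a ∈ rep) ∧ ∀ a ∈ rep, a ≠ 0)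
    (hcub : ∀ c ∈ n1, ml p (ml p c c) c ∈ cub)
    (hseven : pw p y₀ 7 = I3 ∧ okM p y₀ ∧ isU p y₀ ∧ dm p y₀ = 1 ∧ y₀ ≠ I3 ∧
      pows = (List.range 7).map (pw p y₀) ∧
      base = ((1, 0, 0), mv p y₀ (1, 0, 0), mv p y₀ (mv p y₀ (1, 0, 0))) ∧
      mm p base bInv = I3 ∧ ∀ Y ∈ pows, mm p e y₀ ≠ mm p Y e)
    (hcheck : ∀ v ∈ cands (p * p) rep, dt p v v = 1 → ∀ Y ∈ pows,
      dt p v (mv p Y v) = dt p (1, 0, 0) (mv p y₀ (1, 0, 0)) →
      isU p (mm p (v, mv p Y v, mv p Y (mv p Y v)) bInv) →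
      dm p (mm p (v, mv p Y v, mv p Y (mv p Y v)) bInv) ∈ cub →
      maps p mask O (mm p (v, mv p Y v, mv p Y (mv p Y v)) bInv))
    (hG : ¬ 7 ^ (1 + 1) ∣ Nat.card (suGL 3 K p))
    {H : Subgroup (GL (Fin 3) K)} (hH : IsMaximalIn (suGL 3 K p) H)
    {L : Subalgebra K (Matrix (Fin 3) (Fin 3) K)} (hL : IsFieldSubalgebra 3 L)
    (hLadj : IsAdjointClosedFor (hermForm 3 K p) L) (h : H = subalgebraNormalizer L ⊓ suGL 3 K p) : False := by
  classical
  obtain ⟨hy7, hyok, hyU, hyd, hyne, hpows, hbase, hbInv, hexc⟩ := hseven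
  obtain ⟨y, hyG, hyL, hyord, hroots⟩ := seven_unitary hp hσ hr hL hLadj
  obtain ⟨g₀, hg₀, hg₀e⟩ := exists_suGL hp hσ hr hyU hyd
  have hg₀7 : g₀ ^ 7 = 1 := Units.ext (by
    rw [Units.val_pow_eq_pow_val, hg₀e, ← mK_pw hp hσ hr, hy7, mK_one hp hσ hr, Units.val_one])
  haveI : Fact (Nat.Prime 7) := ⟨by norm_num⟩
  have hg₀ord : orderOf g₀ = 7 := orderOf_eq_prime hg₀7 fun h1 => hyne (mK_inj hp hσ hr hyok
    (by rcases hp with rfl | rfl <;> decide) (by rw [← hg₀e, h1, Units.val_one, mK_one hp hσ hr]))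
  obtain ⟨k, hk, hkiff⟩ := exists_conj_full (A := Subgroup.zpowers y) (B := Subgroup.zpowers g₀)
    (Subgroup.zpowers_le.mpr hyG) (Subgroup.zpowers_le.mpr hg₀) (ℓ := 7) (a := 1) (by norm_num)
    (by rw [Nat.card_zpowers, hyord, pow_one]) (by rw [Nat.card_zpowers, hg₀ord, pow_one]) hG
  -- the conjugated subgroup normalises the fixed cyclic group
  have hnorm : ∀ h' ∈ H, ∃ b < 7, (k⁻¹ * h' * k) * g₀ * (k⁻¹ * h' * k)⁻¹ = g₀ ^ b := by
    intro h' hh'
    have hmem : k * g₀ * k⁻¹ ∈ Subgroup.zpowers y := (hkiff _).mpr (by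
      rw [show k⁻¹ * (k * g₀ * k⁻¹) * k = g₀ by group]; exact Subgroup.mem_zpowers g₀)
    obtain ⟨i, hi⟩ := mem_powers_iff_mem_zpowers.mpr hmem
    have hN : h' ∈ subalgebraNormalizer L := ((h ▸ hh' : h' ∈ subalgebraNormalizer L ⊓ suGL 3 K p)).1
    have hmem2 : h' * (k * g₀ * k⁻¹) * h'⁻¹ ∈ Subgroup.zpowers y := by
      rw [← hi]
      simp only [← conj_pow]
      refine Subgroup.pow_mem _ ?_ i
      obtain ⟨b, -, hb⟩ := hroots _ ((hN _).mp hyL) (by
        rw [← Units.val_mul, ← Units.val_mul, ← Units.val_pow_eq_pow_val, conj_pow,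
          show y ^ 7 = 1 from hyord ▸ pow_orderOf_eq_one y, mul_one, mul_inv_cancel, Units.val_one])
      rw [← Units.val_mul, ← Units.val_mul, ← Units.val_pow_eq_pow_val] at hb
      rw [Units.ext hb]
      exact Subgroup.npow_mem_zpowers y b
    have h3 := (hkiff _).mp hmem2
    rw [show k⁻¹ * (h' * (k * g₀ * k⁻¹) * h'⁻¹) * k = (k⁻¹ * h' * k) * g₀ * (k⁻¹ * h' * k)⁻¹ by group] at h3
    obtain ⟨b, hb⟩ := mem_powers_iff_mem_zpowers.mpr h3
    refine ⟨b % 7, Nat.mod_lt _ (by norm_num), ?_⟩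
    rw [← hg₀ord, pow_mod_orderOf]
    exact hb.symm
  refine not_max hp hσ hr hcase hH hk.1 (fun h' hh' => ?_) (fun g hg hge hmem => ?_)
  · have ht : k⁻¹ * h' * k ∈ suGL 3 K p := conj_mem' hk.1 (hH.1.le hh')
    obtain ⟨b, hb7, hb⟩ := hnorm h' hh'
    rw [mul_inv_eq_iff_eq_mul] at hb
    have hb' := congrArg Units.val hb
    rw [Units.val_mul, Units.val_mul _ (k⁻¹ * h' * k), Units.val_pow_eq_pow_val, hg₀e, ← mK_pw hp hσ hr] at hb'
    set t : GL (Fin 3) K := k⁻¹ * h' * k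
    obtain ⟨X₀, hX₀, hX₀e⟩ := exists_mK hp hσ hr (t : Matrix (Fin 3) (Fin 3) K)
    have hU₀ := isU_of_mem hp hσ hr ht.1 hX₀e
    have hlead : lead X₀.1 ≠ 0 := by
      intro h0
      have h1 := hU₀.1
      obtain ⟨a, b, c⟩ : X₀.1.1 = 0 ∧ X₀.1.2.1 = 0 ∧ X₀.1.2.2 = 0 := by
        unfold lead at h0; split_ifs at h0 <;> exact ⟨by omega, by omega, by omega⟩
      rw [show X₀.1 = (0, 0, 0) from Prod.ext a (Prod.ext b c)] at h1
      rcases hp with rfl | rfl <;> exact absurd h1 (by decide)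
    obtain ⟨c, hc, hcand⟩ := exists_cand hp hrep hX₀.1 hlead
    obtain ⟨X, hX, hXU, hXd, hc0, hXe⟩ := exists_scaled hp hσ hr ht hn1 hcub hc
    refine ⟨X, _, hc0, ?_, hXe⟩
    have hY : pw p y₀ b ∈ pows := hpows ▸ List.mem_map.mpr ⟨b, List.mem_range.mpr hb7, rfl⟩
    have hcomm : mK p r X * mK p r y₀ = mK p r (pw p y₀ b) * mK p r X := by
      rw [hXe, smul_mul_assoc, hb', mul_smul_comm]
    obtain ⟨e0, -, -⟩ := col_eq hp hσ hr (rfl : mK p r X = mK p r X)
    obtain ⟨e0', -, -⟩ := col_eq hp hσ hr hX₀e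
    have hv : X.1 = sc p c X₀.1 := vK_inj hp hσ hr hX.1 (sc_ok hp.pos _ _) (by
      rw [e0, vK_sc hp hσ hr, e0', hXe, smul_mulVec])
    have hone : vK p r ((1, 0, 0) : V3) = Pi.single 0 1 := by
      funext l; fin_cases l <;> simp [vK, el_one hp hσ, el_zero]
    have hXb : mm p X base = (X.1, mv p (pw p y₀ b) X.1, mv p (pw p y₀ b) (mv p (pw p y₀ b) X.1)) := by
      have k0 : mv p X (1, 0, 0) = X.1 := vK_inj hp hσ hr (mv_ok hp.pos _ _) hX.1 (by
        rw [← mK_mulVec hp hσ hr, hone, e0])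
      have k1 : mv p X (mv p y₀ (1, 0, 0)) = mv p (pw p y₀ b) X.1 := vK_inj hp hσ hr (mv_ok hp.pos _ _) (mv_ok hp.pos _ _) (by
        rw [← mK_mulVec hp hσ hr, ← mK_mulVec hp hσ hr, mulVec_mulVec, hcomm, ← mulVec_mulVec,
          mK_mulVec hp hσ hr, k0, mK_mulVec hp hσ hr])
      have k2 : mv p X (mv p y₀ (mv p y₀ (1, 0, 0))) = mv p (pw p y₀ b) (mv p (pw p y₀ b) X.1) :=
        vK_inj hp hσ hr (mv_ok hp.pos _ _) (mv_ok hp.pos _ _) (by
          rw [← mK_mulVec hp hσ hr, ← mK_mulVec hp hσ hr, mulVec_mulVec, hcomm, ← mulVec_mulVec,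
            mK_mulVec hp hσ hr, k1, mK_mulVec hp hσ hr])
      simp only [mm, hbase, k0, k1, k2]
    have hXeq : X = mm p (mm p X base) bInv := mK_inj hp hσ hr hX (mm_ok hp.pos _ _) (by
      rw [mK_mul hp hσ hr, mK_mul hp hσ hr, mul_assoc, ← mK_mul hp hσ hr base, hbInv, mK_one hp hσ hr, mul_one])
    rw [hXb, hv] at hXeq
    have hgram : ∀ u v, hermForm 3 K p (mK p r X *ᵥ u) (mK p r X *ᵥ v) = hermForm 3 K p u v := by
      obtain ⟨g', hg', he'⟩ := exists_GU hp hσ hr hXU
      rw [← he']; exact mem_GU_iff.mp hg'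
    rw [hXeq] at hXU hXd ⊢
    refine hcheck _ hcand ?_ _ hY ?_ hXU hXd
    · refine el_inj hp hσ hr (ad_lt hp.pos _ _) (by rcases hp with rfl | rfl <;> norm_num) ?_
      rw [← herm_vK hp hσ hr, ← hv, e0, hgram, hσ.hermForm_single, one_mul, el_one hp hσ]
      simp
    · refine el_inj hp hσ hr (ad_lt hp.pos _ _) (ad_lt hp.pos _ _) ?_
      rw [← herm_vK hp hσ hr, ← herm_vK hp hσ hr, ← hv, ← hgram (vK p r (1, 0, 0)), mK_mulVec hp hσ hr,
        mK_mulVec hp hσ hr]
      have h1 := congrArg (fun M : M3 => M.1) hXb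
      have h2 := congrArg (fun M : M3 => M.2.1) hXb
      simp only [mm, hbase] at h1 h2
      rw [h1, h2]
  · obtain ⟨b, hb7, hb⟩ := hnorm _ hmem
    rw [show k⁻¹ * (k * g * k⁻¹) * k = g by group, mul_inv_eq_iff_eq_mul] at hb
    have hb' := congrArg Units.val hb
    rw [Units.val_mul, Units.val_mul, Units.val_pow_eq_pow_val, hg₀e, hge, ← mK_pw hp hσ hr, ← mK_mul hp hσ hr,
      ← mK_mul hp hσ hr] at hb'
    exact hexc _ (hpows ▸ List.mem_map.mpr ⟨b, List.mem_range.mpr hb7, rfl⟩)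
      (mK_inj hp hσ hr (mm_ok hp.pos _ _) (mm_ok hp.pos _ _) hb')

end Cfsg.Agent.Classical.SUThree

namespace Cfsg.Agent.Classical.SUThree

open Matrix Cfsg.Geo

variable {K : Type*} [Field K] [Fintype K] {σ : K ≃+* K}

/-- The normaliser of a cubic field is not maximal over the fields with nine and twenty-five elements. -/
theorem field_small {p : ℕ} (hp : Small p) (hσ : IsUSigma p σ) {H : Subgroup (GL (Fin 3) K)}
    (hH : IsMaximalIn (suGL 3 K p) H) {L : Subalgebra K (Matrix (Fin 3) (Fin 3) K)} (hL : IsFieldSubalgebra 3 L)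
    (hLadj : IsAdjointClosedFor (hermForm 3 K p) L) (h : H = subalgebraNormalizer L ⊓ suGL 3 K p) : False := by
  obtain ⟨r, hr⟩ := exists_root hp hσ
  rcases hp with rfl | rfl
  · exact field_not_max (Or.inl rfl) hσ hr fld_case_three n1_three' rep_three cub_three seven_three fld_check_three
      (by rw [card_suGL_three hσ]; norm_num) hH hL hLadj h
  · exact field_not_max (Or.inr rfl) hσ hr fld_case_five n1_five' rep_five cub_five seven_five fld_check_five
      (by rw [card_suGL_five hσ]; norm_num) hH hL hLadj h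

end Cfsg.Agent.Classical.SUThree
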