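import Cfsg.Agent.Lib.Classical.SUThreeSmall.Data

/-!
# Certificates for the small special unitary groups of rank three
-/

set_option autoImplicit false
set_option maxRecDepth 100000
set_option synthInstance.maxSize 4000

namespace Cfsg.Agent.Classical.SUThree

/-- Vectors whose leading entry is in the list. -/
def cands (n : ℕ) (R : List ℕ) : List V3 :=
  (R.flatMap fun a => (List.range n).flatMap fun b => (List.range n).map fun c => (a, b, c)) ++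
    (R.flatMap fun a => (List.range n).map fun b => (0, a, b)) ++ R.map fun a => (0, 0, a)

/-- The list and mask describe a set moved by an element but fixed by another one. -/
def caseOK (p mask : ℕ) (O : List V3) (e z : M3) : Prop :=
  (∀ v ∈ O, okV p v ∧ lead v ≠ 0) ∧
  (∀ a < p * p, ∀ b < p * p, ∀ c < p * p, Nat.testBit mask (code p (a, b, c)) = true → (a, b, c) ∈ O) ∧
  (okM p e ∧ isU p e ∧ dm p e = 1 ∧ maps p mask O e) ∧ okM p z ∧ isU p z ∧ dm p z = 1 ∧ moves p O z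

instance decidableCaseOK (p mask : ℕ) (O : List V3) (e z : M3) : Decidable (caseOK p mask O e z) := by
  unfold caseOK; infer_instance

theorem fld_case_three : caseOK 3 maskFldThree orbFldThree eFldThree zFldThree := by decide +kernel

theorem fld_case_five : caseOK 5 maskFldFive orbFldFive eFldFive zFldFive := by decide +kernel

theorem mon_case : caseOK 5 maskMonFive orbMonFive eMonFive zMonFive := by decide +kernel

theorem so_case : caseOK 5 maskSoFive orbSoFive eSoFive zSoFive := by decide +kernel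

theorem sym_case : caseOK 5 maskSymFive orbSymFive eSymFive zSymFive := by decide +kernel

theorem n1_five : ∀ x < 25, ml 5 x (cj 5 x) = 1 → x ∈ n1Five := by decide +kernel

theorem n1_five' : ∀ x ∈ n1Five, x < 25 ∧ ml 5 x (cj 5 x) = 1 := by decide +kernel

theorem n1_three' : ∀ x ∈ n1Three, x < 9 ∧ ml 3 x (cj 3 x) = 1 := by decide +kernel

theorem rep_five : (∀ a < 25, a ≠ 0 → ∃ c ∈ n1Five, ml 5 c a ∈ repFive) ∧ ∀ a ∈ repFive, a ≠ 0 := by decide +kernel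

theorem rep_three : (∀ a < 9, a ≠ 0 → ∃ c ∈ n1Three, ml 3 c a ∈ repThree) ∧ ∀ a ∈ repThree, a ≠ 0 := by decide +kernel

theorem cub_five : ∀ c ∈ n1Five, ml 5 (ml 5 c c) c ∈ cubFive := by decide +kernel

theorem cub_three : ∀ c ∈ n1Three, ml 3 (ml 3 c c) c ∈ cubThree := by decide +kernel

/-- The monomial column. -/
def colM (i a : ℕ) : V3 := if i = 0 then (a, 0, 0) else if i = 1 then (0, a, 0) else (0, 0, a)

theorem mon_check : ∀ i < 3, ∀ j < 3, ∀ k < 3, ∀ b ∈ n1Five, ∀ c ∈ n1Five,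
    dm 5 (colM i 1, colM j b, colM k c) ∈ cubFive →
      maps 5 maskMonFive orbMonFive (colM i 1, colM j b, colM k c) := by decide +kernel

theorem mon_extra : eMonFive.1.1 ≠ 0 ∧ (eMonFive.1.2.1 ≠ 0 ∨ eMonFive.1.2.2 ≠ 0) ∨
    eMonFive.1.2.1 ≠ 0 ∧ eMonFive.1.2.2 ≠ 0 ∨
    eMonFive.2.1.1 ≠ 0 ∧ (eMonFive.2.1.2.1 ≠ 0 ∨ eMonFive.2.1.2.2 ≠ 0) ∨
    eMonFive.2.1.2.1 ≠ 0 ∧ eMonFive.2.1.2.2 ≠ 0 ∨
    eMonFive.2.2.1 ≠ 0 ∧ (eMonFive.2.2.2.1 ≠ 0 ∨ eMonFive.2.2.2.2 ≠ 0) ∨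
    eMonFive.2.2.2.1 ≠ 0 ∧ eMonFive.2.2.2.2 ≠ 0 := by decide +kernel

theorem real_five : ∀ a < 5, ∀ b < 5, ∀ c < 5, dt 5 (a, b, c) (a, b, c) = 1 → (a, b, c) ∈ realFive := by
  decide +kernel

theorem so_check : ∀ u ∈ realFive, ∀ v ∈ realFive, dt 5 u v = 0 → ∀ w ∈ realFive, dt 5 u w = 0 → dt 5 v w = 0 →
    dm 5 (u, v, w) = 1 → maps 5 maskSoFive orbSoFive (u, v, w) := by decide +kernel

/-- An entry of a matrix code. -/
def entC (X : M3) (i j : ℕ) : ℕ :=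
  let c := if j = 0 then X.1 else if j = 1 then X.2.1 else X.2.2
  if i = 0 then c.1 else if i = 1 then c.2.1 else c.2.2

theorem so_extra : ∃ i < 3, ∃ j < 3, ∃ k < 3, ∃ l < 3, 5 ≤ ml 5 (entC eSoFive i j) (cj 5 (entC eSoFive k l)) := by
  decide +kernel

theorem unit_real_three : ∀ a < 3, ∀ b < 3, ∀ c < 3, dt 3 (a, b, c) (a, b, c) = 1 →
    (b = 0 ∧ c = 0) ∨ (a = 0 ∧ c = 0) ∨ (a = 0 ∧ b = 0) := by decide +kernel

theorem seven_five : pw 5 yFive 7 = I3 ∧ okM 5 yFive ∧ isU 5 yFive ∧ dm 5 yFive = 1 ∧ yFive ≠ I3 ∧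
    powsFive = (List.range 7).map (pw 5 yFive) ∧
    baseFive = ((1, 0, 0), mv 5 yFive (1, 0, 0), mv 5 yFive (mv 5 yFive (1, 0, 0))) ∧
    mm 5 baseFive baseInvFive = I3 ∧ ∀ Y ∈ powsFive, mm 5 eFldFive yFive ≠ mm 5 Y eFldFive := by decide +kernel

theorem seven_three : pw 3 yThree 7 = I3 ∧ okM 3 yThree ∧ isU 3 yThree ∧ dm 3 yThree = 1 ∧ yThree ≠ I3 ∧
    powsThree = (List.range 7).map (pw 3 yThree) ∧
    baseThree = ((1, 0, 0), mv 3 yThree (1, 0, 0), mv 3 yThree (mv 3 yThree (1, 0, 0))) ∧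
    mm 3 baseThree baseInvThree = I3 ∧ ∀ Y ∈ powsThree, mm 3 eFldThree yThree ≠ mm 3 Y eFldThree := by
  decide +kernel

theorem fld_check_three : ∀ v ∈ cands 9 repThree, dt 3 v v = 1 → ∀ Y ∈ powsThree,
    dt 3 v (mv 3 Y v) = dt 3 (1, 0, 0) (mv 3 yThree (1, 0, 0)) →
    isU 3 (mm 3 (v, mv 3 Y v, mv 3 Y (mv 3 Y v)) baseInvThree) →
    dm 3 (mm 3 (v, mv 3 Y v, mv 3 Y (mv 3 Y v)) baseInvThree) ∈ cubThree →
    maps 3 maskFldThree orbFldThree (mm 3 (v, mv 3 Y v, mv 3 Y (mv 3 Y v)) baseInvThree) := by decide +kernel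

theorem fld_check_five : ∀ v ∈ cands 25 repFive, dt 5 v v = 1 → ∀ Y ∈ powsFive,
    dt 5 v (mv 5 Y v) = dt 5 (1, 0, 0) (mv 5 yFive (1, 0, 0)) →
    isU 5 (mm 5 (v, mv 5 Y v, mv 5 Y (mv 5 Y v)) baseInvFive) →
    dm 5 (mm 5 (v, mv 5 Y v, mv 5 Y (mv 5 Y v)) baseInvFive) ∈ cubFive →
    maps 5 maskFldFive orbFldFive (mm 5 (v, mv 5 Y v, mv 5 Y (mv 5 Y v)) baseInvFive) := by decide +kernel

theorem grp_five : grpFive.length = 27 ∧ grpFive.Nodup ∧ I3 ∈ grpFive ∧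
    (∀ X ∈ grpFive, okM 5 X ∧ isU 5 X ∧ dm 5 X = 1 ∧ ∀ Y ∈ grpFive, mm 5 X Y ∈ grpFive) ∧
    dFive ∈ grpFive ∧ cFive ∈ grpFive ∧ dFive ≠ I3 ∧ mv 5 dFive (1, 0, 0) = (1, 0, 0) ∧
    mv 5 cFive (1, 0, 0) = (0, 1, 0) ∧ mv 5 cFive (0, 1, 0) = (0, 0, 1) ∧
    ∀ D ∈ grpFive, mm 5 eSymFive dFive ≠ mm 5 D eSymFive := by decide +kernel

theorem sym_check : ∀ v ∈ cands 25 repFive, dt 5 v v = 1 → ∀ D ∈ grpFive, D ≠ I3 → mv 5 D v = v →
    ∀ C ∈ grpFive, isU 5 (v, mv 5 C v, mv 5 C (mv 5 C v)) →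
    dm 5 (v, mv 5 C v, mv 5 C (mv 5 C v)) ∈ cubFive →
    maps 5 maskSymFive orbSymFive (v, mv 5 C v, mv 5 C (mv 5 C v)) := by decide +kernel

/-- The diagonal form on vectors over the prime field. -/
def bdiag (p a b c : ℕ) (u v : V3) : ℕ := (a * u.1 * v.1 + b * u.2.1 * v.2.1 + c * u.2.2 * v.2.2) % p

/-- The congruence carries the diagonal form to a scalar form. -/
def congOK (p a b c : ℕ) (t : ℕ × M3) : Prop :=
  t.1 ≠ 0 ∧ t.1 < p ∧ okV p t.2.1 ∧ t.2.1.1 < p ∧ t.2.1.2.1 < p ∧ t.2.1.2.2 < p ∧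
  t.2.2.1.1 < p ∧ t.2.2.1.2.1 < p ∧ t.2.2.1.2.2 < p ∧ t.2.2.2.1 < p ∧ t.2.2.2.2.1 < p ∧ t.2.2.2.2.2 < p ∧
  bdiag p a b c t.2.1 t.2.1 = t.1 ∧ bdiag p a b c t.2.2.1 t.2.2.1 = t.1 ∧ bdiag p a b c t.2.2.2 t.2.2.2 = t.1 ∧
  bdiag p a b c t.2.1 t.2.2.1 = 0 ∧ bdiag p a b c t.2.1 t.2.2.2 = 0 ∧ bdiag p a b c t.2.2.1 t.2.2.2 = 0

instance decidableCongOK (p a b c : ℕ) (t : ℕ × M3) : Decidable (congOK p a b c t) := by
  unfold congOK; infer_instance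

theorem cong_three : ∀ a < 3, ∀ b < 3, ∀ c < 3, a ≠ 0 → b ≠ 0 → c ≠ 0 → ∃ t ∈ congThree, congOK 3 a b c t := by
  decide +kernel

theorem cong_five : ∀ a < 5, ∀ b < 5, ∀ c < 5, a ≠ 0 → b ≠ 0 → c ≠ 0 → ∃ t ∈ congFive, congOK 5 a b c t := by
  decide +kernel

/-- Multiplication by a root of a quadratic. -/
def stepQ (p u v : ℕ) (t : ℕ × ℕ) : ℕ × ℕ := (ad p (ml p t.1 u) t.2, ml p t.1 v)

/-- Multiplication by a root of a cubic. -/
def stepC (p u v w : ℕ) (t : V3) : V3 := (ad p (ml p t.1 u) t.2.1, ad p (ml p t.1 v) t.2.2, ml p t.1 w)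

theorem quad_three : ∀ u < 9, ∀ v < 9, (stepQ 3 u v)^[7] (0, 1) ≠ (0, 1) := by decide +kernel

theorem quad_five : ∀ u < 25, ∀ v < 25, (stepQ 5 u v)^[7] (0, 1) ≠ (0, 1) := by decide +kernel

theorem cubic_three : ∀ u < 3, ∀ v < 3, ∀ w < 3, (stepC 3 u v w)^[7] (0, 0, 1) ≠ (0, 0, 1) := by decide +kernel

theorem cubic_five : ∀ u < 5, ∀ v < 5, ∀ w < 5, (stepC 5 u v w)^[7] (0, 0, 1) ≠ (0, 0, 1) := by decide +kernel

end Cfsg.Agent.Classical.SUThree
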