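import Cfsg.Agent.Lib.Classical.UnitaryOrders

/-!
# Codes for matrices of rank three over the fields with nine and twenty-five elements
-/

set_option autoImplicit false
set_option linter.unusedSectionVars false
set_option maxHeartbeats 400000

namespace Cfsg.Agent.Classical.SUThree

open Matrix

/-- Evaluation of a number before its use. -/
def force {α : Sort*} (n : ℕ) (k : ℕ → α) : α :=
  match n with
  | 0 => k 0
  | m + 1 => k (m + 1)

theorem force_eq {α : Sort*} (n : ℕ) (k : ℕ → α) : force n k = k n := by cases n <;> rfl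

/-- Addition of codes. -/
def ad (p x y : ℕ) : ℕ := force x fun x => force y fun y => (x % p + y % p) % p + p * ((x / p + y / p) % p)

/-- Multiplication of codes. -/
def ml (p x y : ℕ) : ℕ := force x fun x => force y fun y =>
  (x % p * (y % p) + 2 * (x / p) * (y / p)) % p + p * ((x % p * (y / p) + x / p * (y % p)) % p)

/-- Conjugation of codes. -/
def cj (p x : ℕ) : ℕ := force x fun x => x % p + p * ((p - 1) * (x / p) % p)

/-- Negation of codes. -/
def ng (p x : ℕ) : ℕ := ml p (p - 1) x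

/-- Inverses. -/
def iv (p x : ℕ) : ℕ :=
  (if p = 3 then [0, 1, 2, 6, 5, 4, 3, 8, 7]
    else [0, 1, 3, 2, 4, 15, 9, 11, 14, 6, 20, 7, 17, 18, 8, 5, 22, 12, 13, 23, 10, 24, 16, 19, 21]).getD x 0

/-- Vector codes. -/
abbrev V3 := ℕ × ℕ × ℕ

/-- Matrix codes, by columns. -/
abbrev M3 := V3 × V3 × V3

/-- The identity. -/
def I3 : M3 := ((1, 0, 0), (0, 1, 0), (0, 0, 1))

/-- A scalar multiple of a vector. -/
def sc (p c : ℕ) (v : V3) : V3 := (ml p c v.1, ml p c v.2.1, ml p c v.2.2)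

/-- A scalar multiple of a matrix. -/
def scM (p c : ℕ) (X : M3) : M3 := (sc p c X.1, sc p c X.2.1, sc p c X.2.2)

/-- The sum of vectors. -/
def vad (p : ℕ) (u v : V3) : V3 := (ad p u.1 v.1, ad p u.2.1 v.2.1, ad p u.2.2 v.2.2)

/-- The image of a vector. -/
def mv (p : ℕ) (X : M3) (v : V3) : V3 :=
  vad p (vad p (sc p v.1 X.1) (sc p v.2.1 X.2.1)) (sc p v.2.2 X.2.2)

/-- The product. -/
def mm (p : ℕ) (X Y : M3) : M3 := (mv p X Y.1, mv p X Y.2.1, mv p X Y.2.2)

/-- Powers. -/
def pw (p : ℕ) (X : M3) : ℕ → M3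
  | 0 => I3
  | n + 1 => mm p (pw p X n) X

/-- The form. -/
def dt (p : ℕ) (u v : V3) : ℕ :=
  ad p (ad p (ml p u.1 (cj p v.1)) (ml p u.2.1 (cj p v.2.1))) (ml p u.2.2 (cj p v.2.2))

/-- The determinant. -/
def dm (p : ℕ) (X : M3) : ℕ :=
  ad p (ad p (ad p (ml p (ml p X.1.1 X.2.1.2.1) X.2.2.2.2) (ng p (ml p (ml p X.1.1 X.2.2.2.1) X.2.1.2.2)))
    (ad p (ng p (ml p (ml p X.2.1.1 X.1.2.1) X.2.2.2.2)) (ml p (ml p X.2.1.1 X.2.2.2.1) X.1.2.2)))
    (ad p (ml p (ml p X.2.2.1 X.1.2.1) X.2.1.2.2) (ng p (ml p (ml p X.2.2.1 X.2.1.2.1) X.1.2.2)))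

/-- The leading entry. -/
def lead (v : V3) : ℕ := if v.1 ≠ 0 then v.1 else if v.2.1 ≠ 0 then v.2.1 else v.2.2

/-- The code of a vector. -/
def code (p : ℕ) (v : V3) : ℕ := v.1 + p * p * v.2.1 + p * p * (p * p) * v.2.2

/-- All entries are digits. -/
def okV (p : ℕ) (v : V3) : Prop := v.1 < p * p ∧ v.2.1 < p * p ∧ v.2.2 < p * p

/-- All entries are digits. -/
def okM (p : ℕ) (X : M3) : Prop := okV p X.1 ∧ okV p X.2.1 ∧ okV p X.2.2

instance decidableOkV (p : ℕ) (v : V3) : Decidable (okV p v) := by unfold okV; infer_instance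

instance decidableOkM (p : ℕ) (X : M3) : Decidable (okM p X) := by unfold okM; infer_instance

/-- Orthonormal columns. -/
def isU (p : ℕ) (X : M3) : Prop :=
  dt p X.1 X.1 = 1 ∧ dt p X.2.1 X.2.1 = 1 ∧ dt p X.2.2 X.2.2 = 1 ∧
    dt p X.1 X.2.1 = 0 ∧ dt p X.1 X.2.2 = 0 ∧ dt p X.2.1 X.2.2 = 0

instance decidableIsU (p : ℕ) (X : M3) : Decidable (isU p X) := by unfold isU; infer_instance

/-- Evaluation of a vector before its use. -/
def forceV {α : Sort*} (v : V3) (k : V3 → α) : α :=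
  force v.1 fun a => force v.2.1 fun b => force v.2.2 fun c => k (a, b, c)

theorem forceV_eq {α : Sort*} (v : V3) (k : V3 → α) : forceV v k = k v := by simp only [forceV, force_eq]

/-- The vector meets the set with the given mask. -/
def hit (p mask : ℕ) (w : V3) : Bool :=
  forceV w fun w => force (lead w) fun l => forceV (sc p (iv p l) w) fun u =>
    (l != 0) && Nat.testBit mask (code p u)

theorem hit_iff (p mask : ℕ) (w : V3) :
    hit p mask w = true ↔ lead w ≠ 0 ∧ Nat.testBit mask (code p (sc p (iv p (lead w)) w)) = true := by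
  simp only [hit, forceV_eq, force_eq, Bool.and_eq_true, bne_iff_ne]

/-- The matrix maps the points of the list into the set with the given mask. -/
def maps (p mask : ℕ) (O : List V3) (X : M3) : Prop :=
  forceV X.1 (fun a => forceV X.2.1 fun b => forceV X.2.2 fun c => O.all fun v => hit p mask (mv p (a, b, c) v)) = true

theorem maps_iff (p mask : ℕ) (O : List V3) (X : M3) :
    maps p mask O X ↔ ∀ v ∈ O, lead (mv p X v) ≠ 0 ∧
      Nat.testBit mask (code p (sc p (iv p (lead (mv p X v))) (mv p X v))) = true := by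
  simp only [maps, forceV_eq, List.all_eq_true, hit_iff, Prod.mk.eta]

instance decidableMaps (p mask : ℕ) (O : List V3) (X : M3) : Decidable (maps p mask O X) := by
  unfold maps; infer_instance

/-- The matrix moves a point of the list out of the list. -/
def moves (p : ℕ) (O : List V3) (X : M3) : Prop :=
  ∃ v ∈ O, ∀ a ∈ O, ml p (mv p X v).1 a.2.1 ≠ ml p (mv p X v).2.1 a.1 ∨
    ml p (mv p X v).1 a.2.2 ≠ ml p (mv p X v).2.2 a.1 ∨ ml p (mv p X v).2.1 a.2.2 ≠ ml p (mv p X v).2.2 a.2.1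

instance decidableMoves (p : ℕ) (O : List V3) (X : M3) : Decidable (moves p O X) := by
  unfold moves; infer_instance

/-- The field has order nine or twenty-five. -/
def Small (p : ℕ) : Prop := p = 3 ∨ p = 5

theorem Small.pos {p : ℕ} (hp : Small p) : 0 < p := by rcases hp with rfl | rfl <;> norm_num

theorem iv_three : ∀ x < 9, x ≠ 0 → ml 3 x (iv 3 x) = 1 ∧ iv 3 x < 9 := by decide +kernel

theorem iv_five : ∀ x < 25, x ≠ 0 → ml 5 x (iv 5 x) = 1 ∧ iv 5 x < 25 := by decide +kernel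

theorem Small.iv_spec {p : ℕ} (hp : Small p) {x : ℕ} (hx : x < p * p) (h0 : x ≠ 0) :
    ml p x (iv p x) = 1 ∧ iv p x < p * p := by
  rcases hp with rfl | rfl
  exacts [iv_three x hx h0, iv_five x hx h0]

theorem sub_three : ∀ x < 9, ∀ y < 9, ad 3 x (ng 3 y) = 0 → x = y := by decide +kernel

theorem sub_five : ∀ x < 25, ∀ y < 25, ad 5 x (ng 5 y) = 0 → x = y := by decide +kernel

theorem fix_three : ∀ x < 9, cj 3 x = x → x < 3 := by decide +kernel

theorem fix_five : ∀ x < 25, cj 5 x = x → x < 5 := by decide +kernel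

theorem Small.fix_lt {p : ℕ} (hp : Small p) {x : ℕ} (hx : x < p * p) (h : cj p x = x) : x < p := by
  rcases hp with rfl | rfl
  exacts [fix_three x hx h, fix_five x hx h]

theorem ad_lt {p : ℕ} (hp : 0 < p) (x y : ℕ) : ad p x y < p * p := by
  simp only [ad, force_eq]
  have h1 := Nat.mod_lt (x % p + y % p) hp
  have h2 := Nat.mod_lt (x / p + y / p) hp
  calc _ < p + p * ((x / p + y / p) % p) := by omega
    _ = p * ((x / p + y / p) % p + 1) := by ring
    _ ≤ p * p := Nat.mul_le_mul_left p h2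

theorem ml_lt {p : ℕ} (hp : 0 < p) (x y : ℕ) : ml p x y < p * p := by
  simp only [ml, force_eq]
  have h1 := Nat.mod_lt (x % p * (y % p) + 2 * (x / p) * (y / p)) hp
  have h2 := Nat.mod_lt (x % p * (y / p) + x / p * (y % p)) hp
  calc _ < p + p * ((x % p * (y / p) + x / p * (y % p)) % p) := by omega
    _ = p * ((x % p * (y / p) + x / p * (y % p)) % p + 1) := by ring
    _ ≤ p * p := Nat.mul_le_mul_left p h2

theorem sc_ok {p : ℕ} (hp : 0 < p) (c : ℕ) (v : V3) : okV p (sc p c v) := ⟨ml_lt hp _ _, ml_lt hp _ _, ml_lt hp _ _⟩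

theorem mv_ok {p : ℕ} (hp : 0 < p) (X : M3) (v : V3) : okV p (mv p X v) := ⟨ad_lt hp _ _, ad_lt hp _ _, ad_lt hp _ _⟩

theorem mm_ok {p : ℕ} (hp : 0 < p) (X Y : M3) : okM p (mm p X Y) := ⟨mv_ok hp _ _, mv_ok hp _ _, mv_ok hp _ _⟩

section Field

variable {K : Type*} [Field K] [Fintype K] {p : ℕ} (hp : Small p) {σ : K ≃+* K} (hσ : IsUSigma p σ) {r : K}
  (hr : r * r = 2)

include hp hσ

omit r in
theorem p_zero : (p : K) = 0 := by
  have h := Nat.cast_card_eq_zero K
  rw [hσ.card, Nat.cast_pow] at h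
  exact eq_zero_of_pow_eq_zero h

omit r in
theorem exists_root : ∃ r : K, r * r = 2 := by
  have h2 : (2 : K) ≠ 0 := by
    intro h
    have hp0 := p_zero hp hσ
    rcases hp with rfl | rfl <;> push_cast at hp0
    · exact one_ne_zero (α := K) (by linear_combination hp0 - h)
    · exact one_ne_zero (α := K) (by linear_combination hp0 - 2 * h)
  have hc : ringChar K ≠ 2 := fun h => h2 (by
    have := (ringChar.spec K 2).mpr (h ▸ dvd_rfl)
    exact_mod_cast this)
  have hp0 := p_zero hp hσ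
  obtain ⟨r, hr⟩ := (FiniteField.isSquare_iff hc h2).mpr (by
    rw [hσ.card]
    rcases hp with rfl | rfl <;> push_cast at hp0 <;> norm_num
    · linear_combination 5 * hp0
    · linear_combination 819 * hp0)
  exact ⟨r, hr.symm⟩

omit r in
theorem cast_mod (n : ℕ) : ((n % p : ℕ) : K) = n := by
  have h : ((n % p + p * (n / p) : ℕ) : K) = n := by rw [Nat.mod_add_div]
  push_cast at h
  rw [p_zero hp hσ, zero_mul, add_zero] at h
  exact h

omit hp hσ in
/-- The element with a given code. -/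
def el (p : ℕ) (r : K) (n : ℕ) : K := ((n % p : ℕ) : K) + ((n / p : ℕ) : K) * r

omit hp hσ in
theorem el_zero : el p r 0 = 0 := by simp [el]

theorem el_one : el p r 1 = 1 := by
  rcases hp with rfl | rfl <;> simp [el]

theorem el_small {n : ℕ} (hn : n < p) : el p r n = n := by
  rw [el, Nat.mod_eq_of_lt hn, Nat.div_eq_of_lt hn, Nat.cast_zero, zero_mul, add_zero]

theorem el_mk (a b : ℕ) : el p r (a % p + p * (b % p)) = (a : K) + (b : K) * r := by
  have hpos := hp.pos
  have h2 : (a % p + p * (b % p)) % p = a % p := by rw [Nat.add_mul_mod_self_left, Nat.mod_mod]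
  have h3 : (a % p + p * (b % p)) / p = b % p := by
    rw [Nat.add_mul_div_left _ _ hpos, Nat.div_eq_of_lt (Nat.mod_lt _ hpos), zero_add]
  rw [el, h2, h3, cast_mod hp hσ, cast_mod hp hσ]

theorem el_ad (x y : ℕ) : el p r (ad p x y) = el p r x + el p r y := by
  simp only [ad, force_eq]
  rw [el_mk hp hσ, el, el]
  push_cast
  ring

include hr

theorem el_ml (x y : ℕ) : el p r (ml p x y) = el p r x * el p r y := by
  simp only [ml, force_eq]
  rw [el_mk hp hσ, el, el]
  push_cast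
  linear_combination (-((x / p : ℕ) : K) * ((y / p : ℕ) : K)) * hr

omit hr in
theorem cast_pred : (((p - 1 : ℕ) : ℕ) : K) = -1 := by
  rw [Nat.cast_sub hp.pos, p_zero hp hσ]; simp

theorem el_ng (x : ℕ) : el p r (ng p x) = -el p r x := by
  rw [ng, el_ml hp hσ hr, el_small hp hσ (Nat.sub_lt hp.pos one_pos), cast_pred hp hσ, neg_one_mul]

theorem sigma_r : σ r = -r := by
  have hp0 := p_zero hp hσ
  rw [hσ.apply_eq]
  rcases hp with rfl | rfl <;> push_cast at hp0
  · linear_combination r * hr + r * hp0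
  · linear_combination r * (r * r + 2) * hr + r * hp0

theorem el_cj (x : ℕ) : el p r (cj p x) = σ (el p r x) := by
  simp only [cj, force_eq]
  rw [el_mk hp hσ, el, map_add, map_mul, map_natCast, map_natCast, sigma_r hp hσ hr, Nat.cast_mul,
    cast_pred hp hσ, cast_mod hp hσ]
  ring

theorem el_iv {x : ℕ} (hx : x < p * p) (h0 : x ≠ 0) : el p r x * el p r (iv p x) = 1 := by
  rw [← el_ml hp hσ hr, (hp.iv_spec hx h0).1, el_one hp hσ]

theorem el_ne {x : ℕ} (hx : x < p * p) (h0 : x ≠ 0) : el p r x ≠ 0 := left_ne_zero_of_mul_eq_one (el_iv hp hσ hr hx h0)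

theorem el_inj {x y : ℕ} (hx : x < p * p) (hy : y < p * p) (e : el p r x = el p r y) : x = y := by
  have h0 : el p r (ad p x (ng p y)) = 0 := by rw [el_ad hp hσ, el_ng hp hσ hr, e, add_neg_cancel]
  have hd : ad p x (ng p y) = 0 := by
    by_contra h
    exact el_ne hp hσ hr (ad_lt hp.pos _ _) h h0
  rcases hp with rfl | rfl
  exacts [sub_three x hx y hy hd, sub_five x hx y hy hd]

theorem el_surj (z : K) : ∃ n < p * p, el p r n = z := by
  have hb : Function.Bijective fun n : Fin (p * p) => el p r (n : ℕ) := by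
    rw [Fintype.bijective_iff_injective_and_card, Fintype.card_fin, hσ.card, sq]
    exact ⟨fun a b e => Fin.ext (el_inj hp hσ hr a.2 b.2 e), rfl⟩
  obtain ⟨n, hn⟩ := hb.2 z
  exact ⟨n, n.2, hn⟩

omit hp hσ hr in
/-- The vector with a given code. -/
def vK (p : ℕ) (r : K) (v : V3) : Fin 3 → K := ![el p r v.1, el p r v.2.1, el p r v.2.2]

omit hp hσ hr in
/-- The matrix with a given code. -/
def mK (p : ℕ) (r : K) (X : M3) : Matrix (Fin 3) (Fin 3) K :=
  Matrix.of fun i j => (![vK p r X.1, vK p r X.2.1, vK p r X.2.2] j) i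

theorem mK_mulVec (X : M3) (v : V3) : mK p r X *ᵥ vK p r v = vK p r (mv p X v) := by
  funext i
  simp only [Matrix.mulVec, dotProduct, Fin.sum_univ_three]
  fin_cases i <;> simp [mK, vK, mv, vad, sc, el_ad hp hσ, el_ml hp hσ hr, mul_comm]

theorem mK_mul (X Y : M3) : mK p r (mm p X Y) = mK p r X * mK p r Y := by
  ext i j
  rw [Matrix.mul_apply, Fin.sum_univ_three]
  fin_cases i <;> fin_cases j <;> simp [mK, vK, mm, mv, vad, sc, el_ad hp hσ, el_ml hp hσ hr, mul_comm]

theorem mK_one : mK p r I3 = 1 := by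
  ext i j
  fin_cases i <;> fin_cases j <;> simp [mK, vK, I3, el_one hp hσ, el_zero]

theorem mK_pw (X : M3) (n : ℕ) : mK p r (pw p X n) = mK p r X ^ n := by
  induction n with
  | zero => rw [pow_zero, ← mK_one hp hσ hr]; rfl
  | succ n ih => rw [pow_succ, ← ih, ← mK_mul hp hσ hr]; rfl

theorem vK_sc (c : ℕ) (v : V3) : vK p r (sc p c v) = el p r c • vK p r v := by
  funext i
  fin_cases i <;> simp [vK, sc, el_ml hp hσ hr]

theorem mK_scM (c : ℕ) (X : M3) : mK p r (scM p c X) = el p r c • mK p r X := by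
  ext i j
  fin_cases i <;> fin_cases j <;> simp [mK, vK, scM, sc, el_ml hp hσ hr]

theorem det_mK (X : M3) : (mK p r X).det = el p r (dm p X) := by
  rw [Matrix.det_fin_three]
  simp only [dm, el_ad hp hσ, el_ng hp hσ hr, el_ml hp hσ hr, mK, vK, Matrix.of_apply, Matrix.cons_val_zero,
    Matrix.cons_val_one, Matrix.cons_val]
  ring

theorem herm_vK (u v : V3) : Cfsg.hermForm 3 K p (vK p r u) (vK p r v) = el p r (dt p u v) := by
  rw [hσ.hermForm_eq, Fin.sum_univ_three]
  simp only [dt, el_ad hp hσ, el_ml hp hσ hr, el_cj hp hσ hr, vK, Matrix.cons_val_zero, Matrix.cons_val_one,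
    Matrix.cons_val]

theorem exists_vK (w : Fin 3 → K) : ∃ v : V3, okV p v ∧ vK p r v = w := by
  choose n hn hnw using fun i => el_surj hp hσ hr (w i)
  exact ⟨(n 0, n 1, n 2), ⟨hn 0, hn 1, hn 2⟩, funext fun i => by fin_cases i <;> simp [vK, hnw]⟩

theorem exists_mK (M : Matrix (Fin 3) (Fin 3) K) : ∃ X : M3, okM p X ∧ mK p r X = M := by
  choose v hv hvw using fun j => exists_vK hp hσ hr (fun i => M i j)
  refine ⟨(v 0, v 1, v 2), ⟨hv 0, hv 1, hv 2⟩, Matrix.ext fun i j => ?_⟩
  fin_cases j <;> simp [mK, hvw]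

theorem vK_inj {u v : V3} (hu : okV p u) (hv : okV p v) (e : vK p r u = vK p r v) : u = v := by
  have h0 := el_inj hp hσ hr hu.1 hv.1 (congrFun e 0)
  have h1 := el_inj hp hσ hr hu.2.1 hv.2.1 (congrFun e 1)
  have h2 := el_inj hp hσ hr hu.2.2 hv.2.2 (congrFun e 2)
  exact Prod.ext h0 (Prod.ext h1 h2)

theorem mK_inj {X Y : M3} (hX : okM p X) (hY : okM p Y) (e : mK p r X = mK p r Y) : X = Y := by
  have h : ∀ j, (fun i => mK p r X i j) = fun i => mK p r Y i j := fun j => by rw [e]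
  have h0 := vK_inj hp hσ hr hX.1 hY.1 (by simpa [mK] using h 0)
  have h1 := vK_inj hp hσ hr hX.2.1 hY.2.1 (by simpa [mK] using h 1)
  have h2 := vK_inj hp hσ hr hX.2.2 hY.2.2 (by simpa [mK] using h 2)
  exact Prod.ext h0 (Prod.ext h1 h2)

end Field

end Cfsg.Agent.Classical.SUThree
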