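import Cfsg.Agent.Lib.Classical.SUThreeSmall.Stab
import Cfsg.Agent.Lib.Classical.UnitarySmallDim

/-!
# Monomial and real frames
-/

set_option autoImplicit false
set_option linter.unusedSectionVars false
set_option linter.style.haveILetI false
set_option maxHeartbeats 400000

namespace Cfsg.Agent.Classical.SUThree

open Matrix Cfsg.Geo

variable {K : Type*} [Field K] [Fintype K] {p : ℕ} {σ : K ≃+* K}

theorem exists_GU_of_frame (hσ : IsUSigma p σ) (d : Fin 3 → Fin 3 → K)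
    (hd : ∀ i j, hermForm 3 K p (d i) (d j) = if i = j then 1 else 0) :
    ∃ k ∈ GU 3 K p, ∀ i, (k : Matrix (Fin 3) (Fin 3) K) *ᵥ Pi.single i 1 = d i := by
  have hgram : (Matrix.of fun i j => d j i)ᵀ * (Matrix.of fun i j => d j i).map σ = 1 := by
    ext i j
    rw [mul_apply, one_apply, ← hd, hσ.hermForm_eq]
    rfl
  refine ⟨GeneralLinearGroup.mkOfDetNeZero (Matrix.of fun i j => d j i) fun h0 => ?_, mem_GU_iff.mpr fun u v => ?_,
    fun i => mulVec_single_one _ i⟩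
  · have := congrArg Matrix.det hgram
    rw [det_mul, det_transpose, h0, zero_mul, det_one] at this
    exact zero_ne_one this
  · show hermForm 3 K p ((Matrix.of fun i j => d j i) *ᵥ u) ((Matrix.of fun i j => d j i) *ᵥ v) = _
    rw [hσ.hermForm_eq, hσ.hermForm_eq]
    change ((Matrix.of fun i j => d j i) *ᵥ u) ⬝ᵥ (σ ∘ ((Matrix.of fun i j => d j i) *ᵥ v)) = u ⬝ᵥ (σ ∘ v)
    have e : σ ∘ ((Matrix.of fun i j => d j i) *ᵥ v) = (Matrix.of fun i j => d j i).map σ *ᵥ (σ ∘ v) := by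
      funext i; simp [Matrix.mulVec, dotProduct]
    rw [e, dotProduct_mulVec, ← vecMul_transpose, vecMul_vecMul, hgram, vecMul_one]

theorem frame_of_lines (hσ : IsUSigma p σ) {D : Fin 3 → Submodule K (Fin 3 → K)}
    (hD : IsNondegenerateMDecomposition (hermForm 3 K p) 1 D) :
    ∃ k ∈ GU 3 K p, ∀ i, D i = Submodule.span K {(k : Matrix (Fin 3) (Fin 3) K) *ᵥ Pi.single i 1} := by
  have hf := hσ.isUnitaryForm (n := 3)
  have hex : ∀ i, ∃ d, d ∈ D i ∧ hermForm 3 K p d d = 1 ∧ D i = Submodule.span K {d} := by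
    intro i
    obtain ⟨v, hv, hv0⟩ := (D i).exists_mem_ne_zero_of_ne_bot fun h => by
      have := hD.decomp.finrank_eq i; rw [h, finrank_bot] at this; omega
    have hspan : ∀ d ∈ D i, d ≠ 0 → D i = Submodule.span K {d} := fun d hd hd0 =>
      (Submodule.eq_of_le_of_finrank_eq ((Submodule.span_singleton_le_iff_mem _ _).mpr hd)
        ((finrank_span_singleton hd0).trans (hD.decomp.finrank_eq i).symm)).symm
    obtain ⟨⟨x, hx, hxv⟩, -⟩ := hD.nondegenerate i v hv hv0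
    have hvv : hermForm 3 K p v v ≠ 0 := by
      rw [hspan v hv hv0] at hx
      obtain ⟨c, rfl⟩ := Submodule.mem_span_singleton.mp hx
      rw [hf.smul_left] at hxv
      exact right_ne_zero_of_mul hxv
    obtain ⟨a, ha0, ha⟩ := hσ.norm_surjective hvv (hf.herm v v).symm
    have h1 : hermForm 3 K p (a⁻¹ • v) (a⁻¹ • v) = 1 := by
      rw [hf.smul_left, hf.herm, hf.smul_left, map_mul, ← hf.herm, ← mul_assoc, map_inv₀, ← mul_inv, ha,
        inv_mul_cancel₀ hvv]
    exact ⟨_, (D i).smul_mem _ hv, h1, hspan _ ((D i).smul_mem _ hv) (smul_ne_zero (inv_ne_zero ha0) hv0)⟩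
  choose d hd hdd hspan using hex
  obtain ⟨k, hk, hke⟩ := exists_GU_of_frame hσ d fun i j => by
    split_ifs with h
    · subst h; exact hdd i
    · exact hD.orthogonal i j h _ (hd i) _ (hd j)
  exact ⟨k, hk, fun i => by rw [hke, hspan]⟩

theorem mono_of_stab {D : Fin 3 → Submodule K (Fin 3 → K)} {k h : GL (Fin 3) K}
    (hD : ∀ i, D i = Submodule.span K {(k : Matrix (Fin 3) (Fin 3) K) *ᵥ Pi.single i 1})
    (hh : h ∈ decompositionStabilizer D) : ∀ i, ∃ (j : Fin 3) (c : K),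
      ((k⁻¹ * h * k : GL (Fin 3) K) : Matrix (Fin 3) (Fin 3) K) *ᵥ Pi.single i 1 = c • Pi.single j 1 := by
  obtain ⟨π, hπ⟩ := hh
  intro i
  have hmem : (h : Matrix (Fin 3) (Fin 3) K) *ᵥ ((k : Matrix (Fin 3) (Fin 3) K) *ᵥ Pi.single i 1) ∈ D (π i) := by
    rw [← hπ i]
    exact ⟨_, by rw [hD]; exact Submodule.mem_span_singleton_self _, rfl⟩
  rw [hD, Submodule.mem_span_singleton] at hmem
  obtain ⟨c, hc⟩ := hmem
  refine ⟨π i, c, ?_⟩
  rw [Units.val_mul, Units.val_mul, mul_assoc, ← mulVec_mulVec, ← mulVec_mulVec, ← hc, mulVec_smul, mulVec_mulVec,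
    ← Units.val_mul, inv_mul_cancel, Units.val_one, one_mulVec]

theorem stab_of_mono {D : Fin 3 → Submodule K (Fin 3 → K)} {k h : GL (Fin 3) K}
    (hD : ∀ i, D i = Submodule.span K {(k : Matrix (Fin 3) (Fin 3) K) *ᵥ Pi.single i 1})
    (hh : ∀ i, ∃ (j : Fin 3) (c : K),
      ((k⁻¹ * h * k : GL (Fin 3) K) : Matrix (Fin 3) (Fin 3) K) *ᵥ Pi.single i 1 = c • Pi.single j 1) :
    h ∈ decompositionStabilizer D := by
  choose π c hc using hh
  have hinj : ∀ g : GL (Fin 3) K, Function.Injective ((g : Matrix (Fin 3) (Fin 3) K) *ᵥ ·) := fun g =>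
    mulVec_injective_iff_isUnit.mpr g.isUnit
  have hc0 : ∀ i, c i ≠ 0 := fun i h0 => by
    have h1 := hc i
    rw [h0, zero_smul] at h1
    have h2 := hinj _ (h1.trans (mulVec_zero _).symm)
    simpa using congrFun h2 i
  have hπ : Function.Injective π := by
    intro i i' e
    by_contra hne
    have h1 : ((k⁻¹ * h * k : GL (Fin 3) K) : Matrix (Fin 3) (Fin 3) K) *ᵥ (c i' • Pi.single i 1) =
        ((k⁻¹ * h * k : GL (Fin 3) K) : Matrix (Fin 3) (Fin 3) K) *ᵥ (c i • Pi.single i' 1) := by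
      rw [mulVec_smul, mulVec_smul, hc, hc, e, smul_comm]
    have h2 := congrFun (hinj _ h1) i
    simp [Pi.single_apply, hne] at h2
    exact hc0 i' h2
  refine ⟨Equiv.ofBijective π (Finite.injective_iff_bijective.mp hπ), fun i => ?_⟩
  have hk : (h : Matrix (Fin 3) (Fin 3) K) *ᵥ ((k : Matrix (Fin 3) (Fin 3) K) *ᵥ Pi.single i 1) =
      c i • ((k : Matrix (Fin 3) (Fin 3) K) *ᵥ Pi.single (π i) 1) := by
    rw [← mulVec_smul, ← hc, mulVec_mulVec, mulVec_mulVec, ← Units.val_mul, ← Units.val_mul, mul_assoc k⁻¹,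
      mul_inv_cancel_left]
  rw [hD, Submodule.map_span, Set.image_singleton, toLin'_apply, hk, Equiv.ofBijective_apply, hD,
    Submodule.span_singleton_smul_eq (isUnit_iff_ne_zero.mpr (hc0 i))]

variable {r : K} (hp : Small p) (hσ : IsUSigma p σ) (hr : r * r = 2)

include hp hσ hr

theorem vK_colM (j : Fin 3) (a : ℕ) : vK p r (colM j a) = el p r a • Pi.single j 1 := by
  funext l
  fin_cases j <;> fin_cases l <;> simp [colM, vK, el_zero]

theorem col_eq {X : M3} {M : Matrix (Fin 3) (Fin 3) K} (h : mK p r X = M) :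
    vK p r X.1 = M *ᵥ Pi.single 0 1 ∧ vK p r X.2.1 = M *ᵥ Pi.single 1 1 ∧ vK p r X.2.2 = M *ᵥ Pi.single 2 1 := by
  subst h
  refine ⟨?_, ?_, ?_⟩ <;> funext l <;> rw [mulVec_single_one] <;> fin_cases l <;> simp [mK]

end Cfsg.Agent.Classical.SUThree

namespace Cfsg.Agent.Classical.SUThree

open Matrix Cfsg.Geo

variable {K : Type*} [Field K] [Fintype K] {σ : K ≃+* K}

theorem inv_mem_n1 : ∀ x ∈ n1Five, iv 5 x ∈ n1Five ∧ ml 5 (iv 5 x) x = 1 ∧
    ∀ y ∈ n1Five, ml 5 (iv 5 x) y ∈ n1Five := by decide +kernel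

/-- Over the field with twenty-five elements the monomial subgroup is not maximal. -/
theorem lines_five (hσ : IsUSigma 5 σ) {H : Subgroup (GL (Fin 3) K)} (hH : IsMaximalIn (suGL 3 K 5) H)
    {D : Fin 3 → Submodule K (Fin 3 → K)} (hD : IsNondegenerateMDecomposition (hermForm 3 K 5) 1 D)
    (h : H = decompositionStabilizer D ⊓ suGL 3 K 5) : False := by
  have hp : Small 5 := Or.inr rfl
  obtain ⟨r, hr⟩ := exists_root hp hσ
  obtain ⟨k, hk, hkD⟩ := frame_of_lines hσ hD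
  refine not_max hp hσ hr mon_case hH hk (fun g hg => ?_) (fun g hg hge hmem => ?_)
  · have ht : k⁻¹ * g * k ∈ suGL 3 K 5 := conj_mem' hk (hH.1.le hg)
    have hmono := mono_of_stab hkD ((h ▸ hg : g ∈ decompositionStabilizer D ⊓ suGL 3 K 5)).1
    choose π c hc using hmono
    choose m hm hmc using fun i => el_surj hp hσ hr (c i)
    have hmn : ∀ i, m i ∈ n1Five := by
      intro i
      refine n1_five _ (hm i) (el_inj hp hσ hr (ml_lt hp.pos _ _) (by norm_num) ?_)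
      have h1 := mem_GU_iff.mp ht.1 (Pi.single i 1) (Pi.single i 1)
      rw [hc, hσ.isUnitaryForm.smul_left, hσ.isUnitaryForm.herm, hσ.isUnitaryForm.smul_left, hσ.hermForm_single,
        hσ.hermForm_single] at h1
      simp at h1
      rw [el_ml hp hσ hr, el_cj hp hσ hr, hmc, el_one hp hσ, h1]
    obtain ⟨hlt0, hn0⟩ := n1_five' _ (hmn 0)
    obtain ⟨X, hX, hXU, hXd, hd0, hXe⟩ := exists_scaled hp hσ hr ht n1_five' cub_five (inv_mem_n1 _ (hmn 0)).1
    refine ⟨X, _, hd0, ?_, hXe⟩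
    have hcol : ∀ i : Fin 3, mK 5 r X *ᵥ Pi.single i 1 = vK 5 r (colM (π i) (ml 5 (iv 5 (m 0)) (m i))) := fun i => by
      rw [hXe, smul_mulVec, hc, smul_smul, vK_colM hp hσ hr, el_ml hp hσ hr, hmc]
    have hok : ∀ i : Fin 3, okV 5 (colM (π i) (ml 5 (iv 5 (m 0)) (m i))) := fun i => by
      have := ml_lt hp.pos (iv 5 (m 0)) (m i)
      unfold colM okV; split_ifs <;> simp <;> omega
    obtain ⟨e0, e1, e2⟩ := col_eq hp hσ hr (rfl : mK 5 r X = mK 5 r X)
    have hXc : X = (colM (π 0) (ml 5 (iv 5 (m 0)) (m 0)), colM (π 1) (ml 5 (iv 5 (m 0)) (m 1)),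
        colM (π 2) (ml 5 (iv 5 (m 0)) (m 2))) := Prod.ext (vK_inj hp hσ hr hX.1 (hok 0) (e0.trans (hcol 0)))
      (Prod.ext (vK_inj hp hσ hr hX.2.1 (hok 1) (e1.trans (hcol 1)))
        (vK_inj hp hσ hr hX.2.2 (hok 2) (e2.trans (hcol 2))))
    rw [(inv_mem_n1 _ (hmn 0)).2.1] at hXc
    rw [hXc] at hXd ⊢
    exact mon_check _ (π 0).2 _ (π 1).2 _ (π 2).2 _ ((inv_mem_n1 _ (hmn 0)).2.2 _ (hmn 1)) _
      ((inv_mem_n1 _ (hmn 0)).2.2 _ (hmn 2)) hXd
  · obtain ⟨-, -, he⟩ := hge ▸ (⟨trivial, trivial, rfl⟩ : True ∧ True ∧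
      (g : Matrix (Fin 3) (Fin 3) K) = (g : Matrix (Fin 3) (Fin 3) K))
    have hmono := mono_of_stab hkD ((h ▸ hmem : k * g * k⁻¹ ∈ decompositionStabilizer D ⊓ suGL 3 K 5)).1
    rw [show k⁻¹ * (k * g * k⁻¹) * k = g by group, hge] at hmono
    have hzero : ∀ i a b, a ≠ b → mK 5 r eMonFive a i = 0 ∨ mK 5 r eMonFive b i = 0 := by
      intro i a b hab
      obtain ⟨j, c, hc⟩ := hmono i
      rw [mulVec_single_one] at hc
      have ha := congrFun hc a
      have hb := congrFun hc b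
      simp [Pi.single_apply] at ha hb
      by_cases haj : a = j
      · right; rw [hb]; exact if_neg fun hbj => hab (haj.trans hbj.symm)
      · left; rw [ha]; exact if_neg haj
    obtain ⟨-, -, ⟨⟨⟨a1, a2, a3⟩, ⟨b1, b2, b3⟩, c1, c2, c3⟩, -⟩, -⟩ := mon_case
    have nz : ∀ {n : ℕ}, n < 5 * 5 → n ≠ 0 → el 5 r n ≠ 0 := fun hn h0 => el_ne hp hσ hr hn h0
    rcases mon_extra with ⟨x, y | y⟩ | ⟨x, y⟩ | ⟨x, y | y⟩ | ⟨x, y⟩ | ⟨x, y | y⟩ | ⟨x, y⟩
    exacts [(hzero 0 0 1 (by decide)).elim (nz a1 x) (nz a2 y),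
      (hzero 0 0 2 (by decide)).elim (nz a1 x) (nz a3 y),
      (hzero 0 1 2 (by decide)).elim (nz a2 x) (nz a3 y),
      (hzero 1 0 1 (by decide)).elim (nz b1 x) (nz b2 y),
      (hzero 1 0 2 (by decide)).elim (nz b1 x) (nz b3 y),
      (hzero 1 1 2 (by decide)).elim (nz b2 x) (nz b3 y),
      (hzero 2 0 1 (by decide)).elim (nz c1 x) (nz c2 y),
      (hzero 2 0 2 (by decide)).elim (nz c1 x) (nz c3 y),
      (hzero 2 1 2 (by decide)).elim (nz c2 x) (nz c3 y)]

end Cfsg.Agent.Classical.SUThree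

namespace Cfsg.Agent.Classical.SUThree

open Matrix Cfsg.Geo Module

variable {K : Type*} [Field K] [Fintype K] {p : ℕ} {σ : K ≃+* K} {r : K}

/-- An orthonormal frame in which the subfield group is real up to scalars. -/
theorem real_frame (hp : Small p) (hσ : IsUSigma p σ) (hr : r * r = 2) {F₀ : Subfield K} {P : GL (Fin 3) K}
    (hc2 : Fintype.card K = Nat.card F₀ ^ 2) (hrat : IsFormRationalStructure (hermForm 3 K p) F₀ 1 P) :
    ∃ k ∈ GU 3 K p, ∀ h ∈ subfieldSubgroup F₀ P ⊓ suGL 3 K p, ∃ c : K, c ≠ 0 ∧ ∃ X, okM p X ∧ isU p X ∧ dm p X = 1 ∧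
      ((X.1.1 < p ∧ X.1.2.1 < p ∧ X.1.2.2 < p) ∧ (X.2.1.1 < p ∧ X.2.1.2.1 < p ∧ X.2.1.2.2 < p) ∧
        X.2.2.1 < p ∧ X.2.2.2.1 < p ∧ X.2.2.2.2 < p) ∧
      mK p r X = c • ((k⁻¹ * h * k : GL (Fin 3) K) : Matrix (Fin 3) (Fin 3) K) := by
  classical
  haveI : Fintype F₀ := Fintype.ofFinite F₀
  have hf := hσ.isUnitaryForm (n := 3)
  have hcard : Fintype.card F₀ = p := by
    have h1 : Nat.card F₀ ^ 2 = p ^ 2 := hc2.symm.trans hσ.card
    rw [← Nat.card_eq_fintype_card]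
    exact Nat.pow_left_injective two_ne_zero h1
  have hfix : ∀ x : F₀, σ (x : K) = x := fun x => by
    have := FiniteField.pow_card x
    rw [hcard] at this
    rw [hσ.apply_eq]
    exact_mod_cast congrArg (fun y : F₀ => (y : K)) this
  have hcast : ∀ {n : ℕ}, n < p → el p r n = n := fun hn => el_small hp hσ hn
  have hnat : ∀ x : F₀, ∃ n < p, (x : K) = n := fun x => by
    obtain ⟨n, hn, he⟩ := el_surj hp hσ hr (x : K)
    have hnp : n < p := hp.fix_lt hn (el_inj hp hσ hr (by rcases hp with rfl | rfl <;> simp [cj, force_eq] <;> omega) hn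
      (by rw [el_cj hp hσ hr, he, hfix]))
    exact ⟨n, hnp, by rw [← hcast hnp, he]⟩
  -- the form on the rational structure
  let emb : (Fin 3 → F₀) → Fin 3 → K := fun u => (P : Matrix (Fin 3) (Fin 3) K) *ᵥ fun i => (u i : K)
  have hadd : ∀ u v, emb (u + v) = emb u + emb v := fun u v => by
    rw [← mulVec_add]; rfl
  have hsmul : ∀ (a : F₀) u, emb (a • u) = (a : K) • emb u := fun a u => by
    rw [← mulVec_smul]; rfl
  have hmem : ∀ u v, hermForm 3 K p (emb u) (emb v) ∈ F₀ := fun u v => by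
    simpa [emb] using hrat (fun i => (u i : K)) (fun i => (v i : K)) (fun i => (u i).2) (fun i => (v i).2)
  have hsym : ∀ u v, hermForm 3 K p (emb u) (emb v) = hermForm 3 K p (emb v) (emb u) := fun u v => by
    rw [hf.herm (emb u) (emb v)]
    exact hfix ⟨_, hmem v u⟩
  let B : LinearMap.BilinForm F₀ (Fin 3 → F₀) := LinearMap.mk₂ F₀ (fun u v => ⟨_, hmem u v⟩)
    (fun u u' v => Subtype.ext (by simp [hadd, hf.add_left]))
    (fun a u v => Subtype.ext (by simp [hsmul, hf.smul_left]))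
    (fun u v v' => Subtype.ext (by
      show hermForm 3 K p _ _ = _ + _
      rw [hsym, hadd, hf.add_left, hsym v u, hsym v' u]))
    (fun a u v => Subtype.ext (by
      show hermForm 3 K p _ _ = _ * _
      rw [hsym, hsmul, hf.smul_left, hsym v u]))
  have h2 : (2 : F₀) ≠ 0 := by
    intro h0
    have h1 : (2 : K) = 0 := (map_ofNat F₀.subtype 2).symm.trans ((congrArg F₀.subtype h0).trans (map_zero _))
    have h4 : el p r 2 = 0 := by
      rw [hcast (by rcases hp with rfl | rfl <;> norm_num)]; exact_mod_cast h1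
    exact el_ne hp hσ hr (by rcases hp with rfl | rfl <;> norm_num) two_ne_zero h4
  haveI : Invertible (2 : F₀) := invertibleOfNonzero h2
  obtain ⟨b₀, hb₀⟩ := LinearMap.BilinForm.exists_orthogonal_basis (B := B) ⟨fun u v => Subtype.ext (hsym u v)⟩
  let b : Basis (Fin 3) F₀ (Fin 3 → F₀) := b₀.reindex (finCongr (finrank_fintype_fun_eq_card F₀ |>.trans (Fintype.card_fin 3)))
  have horth : ∀ i j, i ≠ j → hermForm 3 K p (emb (b i)) (emb (b j)) = 0 := fun i j hij => by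
    have h := hb₀ (i := (finCongr (finrank_fintype_fun_eq_card F₀ |>.trans (Fintype.card_fin 3))).symm i)
      (j := (finCongr (finrank_fintype_fun_eq_card F₀ |>.trans (Fintype.card_fin 3))).symm j)
      fun e => hij ((Equiv.injective _) e)
    have h' : B (b i) (b j) = 0 := by simpa [b] using h
    exact congrArg (fun y : F₀ => (y : K)) h'
  have hspan : ∀ x : Fin 3 → K, ∃ y : Fin 3 → K, x = ∑ j, y j • emb (b j) := by
    intro x
    haveI := (Pi.basisFun F₀ (Fin 3)).invertibleToMatrix b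
    set A : Matrix (Fin 3) (Fin 3) F₀ := (Pi.basisFun F₀ (Fin 3)).toMatrix b with hA
    refine ⟨((⅟A).map (fun y : F₀ => (y : K))) *ᵥ (((P⁻¹ : GL (Fin 3) K) : Matrix (Fin 3) (Fin 3) K) *ᵥ x), ?_⟩
    have hsum : ∀ y : Fin 3 → K, ∑ j, y j • emb (b j) =
        (P : Matrix (Fin 3) (Fin 3) K) *ᵥ (A.map (fun y : F₀ => (y : K)) *ᵥ y) := by
      intro y
      simp only [emb, ← mulVec_smul, ← mulVec_sum]
      congr 1
      funext i
      simp [Matrix.mulVec, dotProduct, hA, Basis.toMatrix_apply, mul_comm]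
    have hmul : A.map (fun y : F₀ => (y : K)) * (⅟A).map (fun y : F₀ => (y : K)) = 1 := by
      have h := congrArg (fun M : Matrix (Fin 3) (Fin 3) F₀ => M.map F₀.subtype) (mul_invOf_self A)
      simp only [Matrix.map_mul, Matrix.map_one _ (map_zero F₀.subtype) (map_one F₀.subtype)] at h
      exact h
    rw [hsum, mulVec_mulVec _ (A.map _), hmul, one_mulVec, mulVec_mulVec, ← Units.val_mul, mul_inv_cancel,
      Units.val_one, one_mulVec]
  have hdiag : ∀ i, hermForm 3 K p (emb (b i)) (emb (b i)) ≠ 0 := by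
    intro i h0
    have hi0 : emb (b i) ≠ 0 := fun h => b.ne_zero i (funext fun l => Subtype.ext (by
      have h' := (mulVec_injective_iff_isUnit.mpr P.isUnit) (h.trans (mulVec_zero _).symm)
      exact congrFun h' l))
    obtain ⟨⟨x, hx⟩, -⟩ := hf.nondegenerate _ hi0
    obtain ⟨y, rfl⟩ := hspan x
    refine hx ?_
    rw [Fin.sum_univ_three, hf.add_left, hf.add_left, hf.smul_left, hf.smul_left, hf.smul_left]
    have : ∀ j, hermForm 3 K p (emb (b j)) (emb (b i)) = 0 := fun j => by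
      rcases eq_or_ne j i with rfl | h
      exacts [h0, horth j i h]
    rw [this, this, this, mul_zero, mul_zero, mul_zero, add_zero, add_zero]
  choose n hn hne using fun i => hnat (B (b i) (b i))
  have hn0 : ∀ i, n i ≠ 0 := fun i h => hdiag i (by have := hne i; rw [h, Nat.cast_zero] at this; exact this)
  obtain ⟨t, T, ht⟩ : ∃ t T, congOK p (n 0) (n 1) (n 2) (t, T) := by
    rcases hp with rfl | rfl
    · obtain ⟨⟨t, T⟩, -, h⟩ := cong_three _ (hn 0) _ (hn 1) _ (hn 2) (hn0 0) (hn0 1) (hn0 2)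
      exact ⟨t, T, h⟩
    · obtain ⟨⟨t, T⟩, -, h⟩ := cong_five _ (hn 0) _ (hn 1) _ (hn 2) (hn0 0) (hn0 1) (hn0 2)
      exact ⟨t, T, h⟩
  obtain ⟨ht0, htp, -, -, -, -, -, -, -, -, -, -, hB11, hB22, hB33, hB12, hB13, hB23⟩ := ht
  have ht0' : (t : K) ≠ 0 := by
    rw [← hcast htp]; exact el_ne hp hσ hr (htp.trans_le (Nat.le_mul_self p)) ht0
  obtain ⟨x, hx0, hx⟩ := hσ.norm_surjective ht0' (map_natCast σ t)
  -- the new basis
  let w : Fin 3 → Fin 3 → F₀ := fun j => (((![T.1, T.2.1, T.2.2] j).1 : ℕ) : F₀) • b 0 +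
    (((![T.1, T.2.1, T.2.2] j).2.1 : ℕ) : F₀) • b 1 + (((![T.1, T.2.1, T.2.2] j).2.2 : ℕ) : F₀) • b 2
  have hw : ∀ u v : V3, hermForm 3 K p (emb (((u.1 : ℕ) : F₀) • b 0 + ((u.2.1 : ℕ) : F₀) • b 1 + ((u.2.2 : ℕ) : F₀) • b 2))
      (emb (((v.1 : ℕ) : F₀) • b 0 + ((v.2.1 : ℕ) : F₀) • b 1 + ((v.2.2 : ℕ) : F₀) • b 2)) =
      ((bdiag p (n 0) (n 1) (n 2) u v : ℕ) : K) := by
    intro u v
    have hB : ∀ i j, (B (b i) (b j) : K) = if i = j then (n i : K) else 0 := fun i j => by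
      split_ifs with h
      · subst h; exact hne i
      · exact horth i j h
    show (B _ _ : K) = _
    simp only [map_add, map_smul, LinearMap.add_apply, LinearMap.smul_apply, smul_eq_mul]
    push_cast
    simp only [hB, bdiag, cast_mod hp hσ, Fin.reduceEq, if_true, if_false]
    push_cast
    ring
  have hnd : ∀ i j, hermForm 3 K p (emb (w i)) (emb (w j)) = if i = j then (t : K) else 0 := by
    intro i j
    have hcomm : ∀ u v, bdiag p (n 0) (n 1) (n 2) u v = bdiag p (n 0) (n 1) (n 2) v u := fun u v => by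
      simp only [bdiag, mul_right_comm]
    rw [hw]
    fin_cases i <;> fin_cases j <;>
      simp only [Fin.zero_eta, Fin.mk_one, Fin.reduceFinMk, Fin.isValue, cons_val_zero, cons_val_one, cons_val,
        Fin.reduceEq, if_true, if_false]
    · rw [hB11]
    · rw [hB12, Nat.cast_zero]
    · rw [hB13, Nat.cast_zero]
    · rw [hcomm, hB12, Nat.cast_zero]
    · rw [hB22]
    · rw [hB23, Nat.cast_zero]
    · rw [hcomm, hB13, Nat.cast_zero]
    · rw [hcomm, hB23, Nat.cast_zero]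
    · rw [hB33]
  obtain ⟨k, hk, hke⟩ := exists_GU_of_frame hσ (fun j => x⁻¹ • emb (w j)) fun i j => by
    rw [hf.smul_left, hf.herm, hf.smul_left, map_mul, ← hf.herm, ← mul_assoc, hnd, map_inv₀, ← mul_inv, hx]
    split_ifs <;> simp [ht0']
  let C : Matrix (Fin 3) (Fin 3) F₀ := Matrix.of fun i j => w j i
  have hkC : (k : Matrix (Fin 3) (Fin 3) K) = x⁻¹ • ((P : Matrix (Fin 3) (Fin 3) K) * C.map (fun y : F₀ => (y : K))) := by
    ext i j
    have h := congrFun (hke j) i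
    rw [mulVec_single_one] at h
    refine h.trans ?_
    simp [emb, C, Matrix.mul_apply, Matrix.mulVec, dotProduct]
  have hC : C.det ≠ 0 := by
    intro h0
    have h1 := congrArg Matrix.det hkC
    rw [det_smul, det_mul] at h1
    have h2 : (C.map (fun y : F₀ => (y : K))).det = 0 := by
      have := (RingHom.map_det F₀.subtype C).symm
      rw [h0, map_zero] at this
      exact this
    rw [h2, mul_zero, mul_zero] at h1
    exact ((Matrix.isUnit_iff_isUnit_det _).mp k.isUnit).ne_zero h1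
  refine ⟨k, hk, fun h hh => ?_⟩
  have hkt := conj_mem' hk hh.2
  obtain ⟨g₀, hg₀, hgP⟩ := hh.1
  haveI : (scalars (Fin 3) K).Normal := ⟨fun z hz g => by
    obtain ⟨u, rfl⟩ := hz
    refine ⟨u, ?_⟩
    rw [eq_mul_inv_iff_mul_eq]
    ext i j
    simp [mul_comm]⟩
  obtain ⟨g₁, ⟨A, rfl⟩, z, ⟨u, rfl⟩, rfl⟩ := Subgroup.mem_sup_of_normal_right.mp hg₀
  let Cg : GL (Fin 3) F₀ := GeneralLinearGroup.mkOfDetNeZero C hC
  have hA : ((k⁻¹ * h * k : GL (Fin 3) K) : Matrix (Fin 3) (Fin 3) K) =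
      (u : K) • ((Cg⁻¹ * A * Cg : GL (Fin 3) F₀) : Matrix (Fin 3) (Fin 3) F₀).map (fun y : F₀ => (y : K)) := by
    have e1 : (h : Matrix (Fin 3) (Fin 3) K) * (k : Matrix (Fin 3) (Fin 3) K) =
        (k : Matrix (Fin 3) (Fin 3) K) *
          ((u : K) • ((Cg⁻¹ * A * Cg : GL (Fin 3) F₀) : Matrix (Fin 3) (Fin 3) F₀).map (fun y : F₀ => (y : K))) := by
      have hCC : C.map (fun y : F₀ => (y : K)) *
          ((Cg⁻¹ * A * Cg : GL (Fin 3) F₀) : Matrix (Fin 3) (Fin 3) F₀).map (fun y : F₀ => (y : K)) =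
          (A : Matrix (Fin 3) (Fin 3) F₀).map (fun y : F₀ => (y : K)) * C.map (fun y : F₀ => (y : K)) := by
        show C.map F₀.subtype * ((Cg⁻¹ * A * Cg : GL (Fin 3) F₀) : Matrix (Fin 3) (Fin 3) F₀).map F₀.subtype =
          (A : Matrix (Fin 3) (Fin 3) F₀).map F₀.subtype * C.map F₀.subtype
        rw [← Matrix.map_mul, ← Matrix.map_mul, show C = (Cg : Matrix (Fin 3) (Fin 3) F₀) from rfl, ← Units.val_mul,
          ← Units.val_mul, mul_assoc Cg⁻¹, mul_inv_cancel_left]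
      rw [hkC, ← hgP]
      show ((P * (GeneralLinearGroup.map F₀.subtype A *
          Units.map (Matrix.scalar (Fin 3) : K →+* Matrix (Fin 3) (Fin 3) K).toMonoidHom u) * P⁻¹ : GL (Fin 3) K) :
          Matrix (Fin 3) (Fin 3) K) * _ = _
      simp only [Units.val_mul]
      rw [show ((Units.map (Matrix.scalar (Fin 3) : K →+* Matrix (Fin 3) (Fin 3) K).toMonoidHom u :
          GL (Fin 3) K) : Matrix (Fin 3) (Fin 3) K) = (u : K) • 1 from by ext i j; simp [Matrix.one_apply, Matrix.diagonal],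
        show ((GeneralLinearGroup.map F₀.subtype A : GL (Fin 3) K) : Matrix (Fin 3) (Fin 3) K) =
          (A : Matrix (Fin 3) (Fin 3) F₀).map (fun y : F₀ => (y : K)) from rfl]
      simp only [smul_mul_assoc, mul_smul_comm, mul_one, mul_assoc]
      rw [← mul_assoc ((P⁻¹ : GL (Fin 3) K) : Matrix (Fin 3) (Fin 3) K), ← Units.val_mul, inv_mul_cancel,
        Units.val_one, one_mul]
      simp only [← Units.val_mul] at hCC ⊢
      rw [← hCC, smul_comm]
      simp only [mul_assoc]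
    rw [Units.val_mul, Units.val_mul, mul_assoc, e1, ← mul_assoc, ← Units.val_mul, inv_mul_cancel, Units.val_one,
      one_mul]
  set M : Matrix (Fin 3) (Fin 3) F₀ := ((Cg⁻¹ * A * Cg : GL (Fin 3) F₀) : Matrix (Fin 3) (Fin 3) F₀)
  have hu0 : σ (u : K) ≠ 0 := by simp
  have hu3 : σ ((u : K) ^ 3) = (u : K) ^ 3 := by
    have hd := det_of_mem hkt
    rw [hA, det_smul, Fintype.card_fin, show (M.map fun y : F₀ => (y : K)).det = ((M.det : F₀) : K) from
      (RingHom.map_det F₀.subtype M).symm] at hd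
    have hd' := congrArg σ hd
    rw [map_mul, map_one, hfix, ← hd] at hd'
    exact mul_right_cancel₀ (right_ne_zero_of_mul_eq_one hd) hd'
  rw [map_pow] at hu3
  set c : K := (u : K) * (σ (u : K))⁻¹ with hc
  have hcn : c * σ c = 1 := by
    rw [hc, map_mul, map_inv₀, hσ.involutive]; field_simp
  obtain ⟨X, hX, hXe⟩ := exists_mK hp hσ hr (c • ((k⁻¹ * h * k : GL (Fin 3) K) : Matrix (Fin 3) (Fin 3) K))
  have hreal : ∀ i j, σ (mK p r X i j) = mK p r X i j := by
    intro i j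
    rw [hXe, hA]
    simp only [Matrix.smul_apply, Matrix.map_apply, smul_eq_mul, map_mul, hfix, hc, map_inv₀, hσ.involutive]
    field_simp
    linear_combination (((M i j : F₀) : K)) * hu3
  have hlt : ∀ {a : ℕ}, a < p * p → σ (el p r a) = el p r a → a < p := fun {a} ha e =>
    hp.fix_lt ha (el_inj hp hσ hr (by rcases hp with rfl | rfl <;> simp [cj, force_eq] <;> omega) ha
      (by rw [el_cj hp hσ hr, e]))
  obtain ⟨⟨a1, a2, a3⟩, ⟨b1, b2, b3⟩, c1, c2, c3⟩ := hX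
  refine ⟨c, left_ne_zero_of_mul_eq_one hcn, X, ⟨⟨a1, a2, a3⟩, ⟨b1, b2, b3⟩, c1, c2, c3⟩, isU_of_gram hp hσ hr fun y z => ?_,
    el_inj hp hσ hr (ad_lt hp.pos _ _) (by rcases hp with rfl | rfl <;> norm_num) ?_,
    ⟨⟨hlt a1 (by simpa [mK, vK] using hreal 0 0), hlt a2 (by simpa [mK, vK] using hreal 1 0),
      hlt a3 (by simpa [mK, vK] using hreal 2 0)⟩, ⟨hlt b1 (by simpa [mK, vK] using hreal 0 1),
      hlt b2 (by simpa [mK, vK] using hreal 1 1), hlt b3 (by simpa [mK, vK] using hreal 2 1)⟩,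
      hlt c1 (by simpa [mK, vK] using hreal 0 2), hlt c2 (by simpa [mK, vK] using hreal 1 2),
      hlt c3 (by simpa [mK, vK] using hreal 2 2)⟩, hXe⟩
  · rw [hXe, smul_mulVec, smul_mulVec, hf.smul_left, hf.herm, hf.smul_left, map_mul, ← hf.herm, ← mul_assoc, hcn,
      one_mul]
    exact mem_GU_iff.mp hkt.1 y z
  · rw [← det_mK hp hσ hr, hXe, det_smul, det_of_mem hkt, Fintype.card_fin, el_one hp hσ, mul_one, hc, mul_pow,
      inv_pow, hu3, mul_inv_cancel₀ (pow_ne_zero _ (Units.ne_zero u))]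

end Cfsg.Agent.Classical.SUThree

namespace Cfsg.Agent.Classical.SUThree

open Matrix Cfsg.Geo

variable {K : Type*} [Field K] [Fintype K] {σ : K ≃+* K}

/-- Over the field with twenty-five elements the subfield group of index two is not maximal. -/
theorem subfield_five (hσ : IsUSigma 5 σ) {H : Subgroup (GL (Fin 3) K)} (hH : IsMaximalIn (suGL 3 K 5) H)
    {F₀ : Subfield K} {P : GL (Fin 3) K} (hc2 : Fintype.card K = Nat.card F₀ ^ 2)
    (hrat : IsFormRationalStructure (hermForm 3 K 5) F₀ 1 P) (h : H = subfieldSubgroup F₀ P ⊓ suGL 3 K 5) :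
    False := by
  have hp : Small 5 := Or.inr rfl
  obtain ⟨r, hr⟩ := exists_root hp hσ
  obtain ⟨k, hk, hkX⟩ := real_frame hp hσ hr hc2 hrat
  refine not_max hp hσ hr so_case hH hk (fun g hg => ?_) (fun g hg hge hmem => ?_)
  · obtain ⟨c, hc, X, -, hU, hd, ⟨⟨a1, a2, a3⟩, ⟨b1, b2, b3⟩, c1, c2, c3⟩, hX⟩ := hkX g (h ▸ hg)
    obtain ⟨d0, d1, d2, d01, d02, d12⟩ := hU
    exact ⟨X, c, hc, so_check _ (real_five _ a1 _ a2 _ a3 d0) _ (real_five _ b1 _ b2 _ b3 d1) d01 _
      (real_five _ c1 _ c2 _ c3 d2) d02 d12 hd, hX⟩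
  · obtain ⟨c, hc, X, -, -, -, ⟨⟨a1, a2, a3⟩, ⟨b1, b2, b3⟩, c1, c2, c3⟩, hX⟩ := hkX _ (h ▸ hmem)
    rw [show k⁻¹ * (k * g * k⁻¹) * k = g by group, hge] at hX
    obtain ⟨i, hi, j, hj, l, hl, m, hm, hlarge⟩ := so_extra
    have hent : ∀ (Y : M3) (a b : Fin 3), mK 5 r Y a b = el 5 r (entC Y a b) := fun Y a b => by
      fin_cases a <;> fin_cases b <;> simp [entC, mK, vK]
    have hreal : ∀ a b : Fin 3, ∃ n : ℕ, mK 5 r X a b = n := fun a b => by
      have hlt : entC X a b < 5 := by fin_cases a <;> fin_cases b <;> simp [entC] <;> assumption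
      exact ⟨_, by rw [hent, el_small hp hσ hlt]⟩
    obtain ⟨n₁, hn₁⟩ := hreal ⟨i, hi⟩ ⟨j, hj⟩
    obtain ⟨n₂, hn₂⟩ := hreal ⟨l, hl⟩ ⟨m, hm⟩
    rw [hX, Matrix.smul_apply, smul_eq_mul, hent] at hn₁ hn₂
    refine absurd (hp.fix_lt (ml_lt hp.pos _ _) (el_inj hp hσ hr (by simp [cj, force_eq]; omega) (ml_lt hp.pos _ _) ?_))
      (not_lt.mpr hlarge)
    rw [el_cj hp hσ hr, el_ml hp hσ hr, el_cj hp hσ hr, map_mul, hσ.involutive]
    have hcc : c * σ c ≠ 0 := mul_ne_zero hc (by simp [hc])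
    refine mul_left_cancel₀ hcc ?_
    have e₁ := congrArg σ hn₁
    have e₂ := congrArg σ hn₂
    simp only [map_mul, map_natCast] at e₁ e₂
    calc c * σ c * (σ (el 5 r (entC eSoFive i j)) * el 5 r (entC eSoFive l m))
        = (σ c * σ (el 5 r (entC eSoFive i j))) * (c * el 5 r (entC eSoFive l m)) := by ring
      _ = (c * el 5 r (entC eSoFive i j)) * (σ c * σ (el 5 r (entC eSoFive l m))) := by
          rw [e₁, hn₁, e₂, hn₂]
      _ = _ := by ring

/-- Over the field with nine elements the subfield group of index two stabilises a frame. -/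
theorem subfield_three (hσ : IsUSigma 3 σ) {H : Subgroup (GL (Fin 3) K)} (hH : IsMaximalIn (suGL 3 K 3) H)
    {F₀ : Subfield K} {P : GL (Fin 3) K} (hc2 : Fintype.card K = Nat.card F₀ ^ 2)
    (hrat : IsFormRationalStructure (hermForm 3 K 3) F₀ 1 P) (h : H = subfieldSubgroup F₀ P ⊓ suGL 3 K 3) :
    ∃ D : Fin 3 → Submodule K (Fin 3 → K), IsNondegenerateMDecomposition (hermForm 3 K 3) 1 D ∧
      H = decompositionStabilizer D ⊓ suGL 3 K 3 := by
  have hp : Small 3 := Or.inl rfl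
  obtain ⟨r, hr⟩ := exists_root hp hσ
  obtain ⟨k, hk, hkX⟩ := real_frame hp hσ hr hc2 hrat
  have hf := hσ.isUnitaryForm (n := 3)
  let d : Fin 3 → Fin 3 → K := fun i => (k : Matrix (Fin 3) (Fin 3) K) *ᵥ Pi.single i 1
  let D : Fin 3 → Submodule K (Fin 3 → K) := fun i => Submodule.span K {d i}
  have hdd : ∀ i j, hermForm 3 K 3 (d i) (d j) = if i = j then 1 else 0 := fun i j => by
    rw [mem_GU_iff.mp hk, hσ.hermForm_single, one_mul, Pi.single_apply]
    split_ifs <;> simp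
  have hli : LinearIndependent K d := by
    have hl : LinearIndependent K fun i : Fin 3 => (Pi.single i (1 : K) : Fin 3 → K) := Pi.linearIndependent_single_one _ _
    exact hl.map' (Matrix.mulVecLin (k : Matrix (Fin 3) (Fin 3) K))
      (LinearMap.ker_eq_bot.mpr (mulVec_injective_iff_isUnit.mpr k.isUnit))
  have hD : IsNondegenerateMDecomposition (hermForm 3 K 3) 1 D := by
    refine ⟨⟨by norm_num, one_pos, fun i => finrank_span_singleton (hli.ne_zero i),
      hli.iSupIndep_span_singleton, ?_⟩, fun i w hw hw0 => ?_, fun i j hij u hu v hv => ?_⟩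
    · show ⨆ i, Submodule.span K {d i} = ⊤
      rw [← Submodule.span_iUnion, show (⋃ i, {d i}) = Set.range d by ext; simp [eq_comm]]
      exact hli.span_eq_top_of_card_eq_finrank (by simp)
    · obtain ⟨a, rfl⟩ := Submodule.mem_span_singleton.mp hw
      have ha : a ≠ 0 := fun h0 => hw0 (by rw [h0, zero_smul])
      refine ⟨⟨d i, Submodule.mem_span_singleton_self _, ?_⟩, d i, Submodule.mem_span_singleton_self _, ?_⟩
      · rw [hf.herm, hf.smul_left, hdd, if_pos rfl, mul_one]; simp [ha]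
      · rw [hf.smul_left, hdd, if_pos rfl, mul_one]; exact ha
    · obtain ⟨a, rfl⟩ := Submodule.mem_span_singleton.mp hu
      obtain ⟨b, rfl⟩ := Submodule.mem_span_singleton.mp hv
      rw [hf.smul_left, hf.herm, hf.smul_left, hdd, if_neg (Ne.symm hij), mul_zero, map_zero, mul_zero]
  refine ⟨D, hD, eq_inf_of_maximal' hH (fun g hg => stab_of_mono (fun i => rfl) ?_)
    (hσ.not_su_le_decomp_small le_rfl (by norm_num) (by norm_num) hD.decomp)⟩
  obtain ⟨c, hc, X, -, ⟨d0, d1, d2, -⟩, -, ⟨⟨a1, a2, a3⟩, ⟨b1, b2, b3⟩, c1, c2, c3⟩, hX⟩ := hkX g (h ▸ hg)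
  obtain ⟨e0, e1, e2⟩ := col_eq hp hσ hr hX
  have key : ∀ (a b e : ℕ), ((b = 0 ∧ e = 0) ∨ (a = 0 ∧ e = 0) ∨ (a = 0 ∧ b = 0)) → ∀ i : Fin 3,
      vK 3 r (a, b, e) = (c • ((k⁻¹ * g * k : GL (Fin 3) K) : Matrix (Fin 3) (Fin 3) K)) *ᵥ Pi.single i 1 →
      ∃ (j : Fin 3) (x : K), ((k⁻¹ * g * k : GL (Fin 3) K) : Matrix (Fin 3) (Fin 3) K) *ᵥ Pi.single i 1 =
        x • Pi.single j 1 := by
    intro a b e hor i he
    rw [smul_mulVec] at he
    obtain ⟨j, x, hjx⟩ : ∃ (j : Fin 3) (x : K), vK 3 r (a, b, e) = x • Pi.single j 1 := by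
      rcases hor with ⟨rfl, rfl⟩ | ⟨rfl, rfl⟩ | ⟨rfl, rfl⟩
      · exact ⟨0, el 3 r a, funext fun l => by fin_cases l <;> simp [vK, el_zero]⟩
      · exact ⟨1, el 3 r b, funext fun l => by fin_cases l <;> simp [vK, el_zero]⟩
      · exact ⟨2, el 3 r e, funext fun l => by fin_cases l <;> simp [vK, el_zero]⟩
    refine ⟨j, c⁻¹ * x, ?_⟩
    rw [← smul_smul, ← hjx, he, smul_smul, inv_mul_cancel₀ hc, one_smul]
  intro i
  fin_cases i
  · exact key _ _ _ (unit_real_three _ a1 _ a2 _ a3 d0) _ e0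
  · exact key _ _ _ (unit_real_three _ b1 _ b2 _ b3 d1) _ e1
  · exact key _ _ _ (unit_real_three _ c1 _ c2 _ c3 d2) _ e2

end Cfsg.Agent.Classical.SUThree
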