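import Cfsg.Agent.Lib.Classical.SUThreeSmall.Checks
import Cfsg.Agent.Lib.Classical.UnitaryCases

/-!
# Non-maximality from a stabilised set of points
-/

set_option autoImplicit false
set_option linter.unusedSectionVars false
set_option linter.style.haveILetI false
set_option maxHeartbeats 400000

namespace Cfsg.Agent.Classical.SUThree

open Matrix Cfsg.Geo

variable {K : Type*} [Field K] [Fintype K] {p : ℕ} {σ : K ≃+* K} {r : K}

/-- The non-zero multiples of the vectors in a list. -/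
def pointSet (p : ℕ) (r : K) (O : List V3) : Set (Fin 3 → K) :=
  {w | ∃ c : K, c ≠ 0 ∧ ∃ v ∈ O, w = c • vK p r v}

/-- The stabiliser of a set of vectors. -/
def setStab (S : Set (Fin 3 → K)) : Subgroup (GL (Fin 3) K) where
  carrier := {g | ∀ w, (g : Matrix (Fin 3) (Fin 3) K) *ᵥ w ∈ S ↔ w ∈ S}
  one_mem' w := by rw [Units.val_one, one_mulVec]
  mul_mem' {a b} ha hb w := by rw [Units.val_mul, ← mulVec_mulVec]; exact (ha _).trans (hb w)
  inv_mem' {a} ha w := by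
    have h := ha (((a⁻¹ : GL (Fin 3) K) : Matrix (Fin 3) (Fin 3) K) *ᵥ w)
    rw [mulVec_mulVec, ← Units.val_mul, mul_inv_cancel, Units.val_one, one_mulVec] at h
    exact h.symm

theorem mem_setStab_of_maps {S : Set (Fin 3 → K)} {g : GL (Fin 3) K}
    (h : ∀ w ∈ S, (g : Matrix (Fin 3) (Fin 3) K) *ᵥ w ∈ S) : g ∈ setStab S := by
  intro w
  refine ⟨fun hw => ?_, h w⟩
  have hinj : Function.Injective ((g : Matrix (Fin 3) (Fin 3) K) *ᵥ ·) :=
    mulVec_injective_iff_isUnit.mpr g.isUnit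
  have hsurj := (S.toFinite.surjOn_iff_bijOn_of_mapsTo (f := ((g : Matrix (Fin 3) (Fin 3) K) *ᵥ ·))
    fun x hx => h x hx).mpr (((S.toFinite.injOn_iff_bijOn_of_mapsTo fun x hx => h x hx)).mp hinj.injOn)
  obtain ⟨x, hx, e⟩ := hsurj hw
  exact hinj e ▸ hx

variable (hp : Small p) (hσ : IsUSigma p σ) (hr : r * r = 2)

include hp hσ hr

theorem maps_pointSet {mask : ℕ} {O : List V3}
    (hOm : ∀ a < p * p, ∀ b < p * p, ∀ c < p * p, Nat.testBit mask (code p (a, b, c)) = true → (a, b, c) ∈ O)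
    {X : M3} (hX : maps p mask O X) {c : K} (hc : c ≠ 0) {g : GL (Fin 3) K}
    (hg : mK p r X = c • (g : Matrix (Fin 3) (Fin 3) K)) : g ∈ setStab (pointSet p r O) := by
  refine mem_setStab_of_maps ?_
  rintro w ⟨d, hd, v, hv, rfl⟩
  obtain ⟨hl, hbit⟩ := (maps_iff p mask O X).mp hX v hv
  obtain ⟨h1, h2, h3⟩ := sc_ok hp.pos (iv p (lead (mv p X v))) (mv p X v)
  have hmem := hOm _ h1 _ h2 _ h3 hbit
  obtain ⟨hw1, hw2, hw3⟩ := mv_ok hp.pos X v
  have hlt : lead (mv p X v) < p * p := by unfold lead; split_ifs <;> assumption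
  refine ⟨c⁻¹ * d * el p r (lead (mv p X v)), mul_ne_zero (mul_ne_zero (inv_ne_zero hc) hd) (el_ne hp hσ hr hlt hl),
    _, hmem, ?_⟩
  have hgX : (g : Matrix (Fin 3) (Fin 3) K) = c⁻¹ • mK p r X := by rw [hg, smul_smul, inv_mul_cancel₀ hc, one_smul]
  rw [hgX, mulVec_smul, smul_mulVec, mK_mulVec hp hσ hr]
  simp only [Prod.mk.eta]
  rw [vK_sc hp hσ hr, smul_smul, smul_smul,
    show c⁻¹ * d * el p r (lead (mv p X v)) * el p r (iv p (lead (mv p X v))) = d * c⁻¹ by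
      rw [mul_assoc (c⁻¹ * d), el_iv hp hσ hr hlt hl, mul_one, mul_comm]]

theorem not_mem_of_moves {O : List V3} {z : M3}
    (hz : moves p O z) {g : GL (Fin 3) K} (hg : (g : Matrix (Fin 3) (Fin 3) K) = mK p r z) :
    g ∉ setStab (pointSet p r O) := by
  intro hmem
  obtain ⟨v, hv, hmove⟩ := hz
  obtain ⟨c, -, a, ha, hca⟩ := (hmem (vK p r v)).mpr ⟨1, one_ne_zero, v, hv, (one_smul _ _).symm⟩
  rw [hg, mK_mulVec hp hσ hr] at hca
  have h0 := congrFun hca 0
  have h1 := congrFun hca 1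
  have h2 := congrFun hca 2
  simp [vK] at h0 h1 h2
  rcases hmove a ha with h | h | h <;> refine h (el_inj hp hσ hr (ml_lt hp.pos _ _) (ml_lt hp.pos _ _) ?_) <;>
    rw [el_ml hp hσ hr, el_ml hp hσ hr]
  · rw [h0, h1]; ring
  · rw [h0, h2]; ring
  · rw [h1, h2]; ring

theorem herm_col (X : M3) (i j : Fin 3) :
    hermForm 3 K p (mK p r X *ᵥ Pi.single i 1) (mK p r X *ᵥ Pi.single j 1) =
      el p r (dt p (![X.1, X.2.1, X.2.2] i) (![X.1, X.2.1, X.2.2] j)) := by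
  rw [← herm_vK hp hσ hr]
  congr 1 <;> funext l <;> rw [mulVec_single_one] <;> fin_cases i <;> fin_cases j <;> fin_cases l <;> simp [mK]

theorem isU_of_gram {X : M3} (hM : ∀ u v, hermForm 3 K p (mK p r X *ᵥ u) (mK p r X *ᵥ v) = hermForm 3 K p u v) :
    isU p X := by
  have h : ∀ i j : Fin 3, dt p (![X.1, X.2.1, X.2.2] i) (![X.1, X.2.1, X.2.2] j) = if i = j then 1 else 0 := by
    intro i j
    refine el_inj hp hσ hr (ad_lt hp.pos _ _) (by rcases hp with rfl | rfl <;> split_ifs <;> norm_num) ?_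
    rw [← herm_col hp hσ hr X i j, hM, hσ.hermForm_single, one_mul, Pi.single_apply]
    split_ifs <;> simp [el_one hp hσ, el_zero]
  exact ⟨by simpa using h 0 0, by simpa using h 1 1, by simpa using h 2 2, by simpa using h 0 1, by simpa using h 0 2,
    by simpa using h 1 2⟩

theorem exists_GU {X : M3} (hU : isU p X) : ∃ g ∈ GU 3 K p, (g : Matrix (Fin 3) (Fin 3) K) = mK p r X := by
  obtain ⟨d0, d1, d2, d01, d02, d12⟩ := hU
  have hgram : (mK p r X)ᵀ * (mK p r X).map σ = 1 := by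
    ext i j
    have h := herm_col hp hσ hr X i j
    rw [hσ.hermForm_eq, mulVec_single_one, mulVec_single_one] at h
    rw [mul_apply, one_apply]
    refine h.trans ?_
    have hsym : ∀ u v : V3, el p r (dt p u v) = σ (el p r (dt p v u)) := fun u v => by
      rw [← herm_vK hp hσ hr, ← herm_vK hp hσ hr, hσ.isUnitaryForm.herm]
    fin_cases i <;> fin_cases j <;>
      simp only [Fin.zero_eta, Fin.mk_one, Fin.isValue, cons_val_zero, cons_val_one, cons_val, Fin.reduceFinMk, Fin.reduceEq,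
        if_true, if_false]
    · rw [d0, el_one hp hσ]
    · rw [d01, el_zero]
    · rw [d02, el_zero]
    · rw [hsym, d01, el_zero, map_zero]
    · rw [d1, el_one hp hσ]
    · rw [d12, el_zero]
    · rw [hsym, d02, el_zero, map_zero]
    · rw [hsym, d12, el_zero, map_zero]
    · rw [d2, el_one hp hσ]
  refine ⟨GeneralLinearGroup.mkOfDetNeZero (mK p r X) fun h0 => ?_, mem_GU_iff.mpr fun u v => ?_, rfl⟩
  · have := congrArg Matrix.det hgram
    rw [det_mul, det_transpose, h0, zero_mul, det_one] at this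
    exact zero_ne_one this
  · show hermForm 3 K p (mK p r X *ᵥ u) (mK p r X *ᵥ v) = _
    rw [hσ.hermForm_eq, hσ.hermForm_eq]
    change ((mK p r X) *ᵥ u) ⬝ᵥ (σ ∘ (mK p r X *ᵥ v)) = u ⬝ᵥ (σ ∘ v)
    have e : σ ∘ (mK p r X *ᵥ v) = (mK p r X).map σ *ᵥ (σ ∘ v) := by
      funext i; simp [Matrix.mulVec, dotProduct]
    rw [e, dotProduct_mulVec, ← vecMul_transpose, vecMul_vecMul, hgram, vecMul_one]

theorem exists_suGL {X : M3} (hU : isU p X) (hd : dm p X = 1) :
    ∃ g ∈ suGL 3 K p, (g : Matrix (Fin 3) (Fin 3) K) = mK p r X := by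
  obtain ⟨g, hg, e⟩ := exists_GU hp hσ hr hU
  refine ⟨g, ⟨hg, MonoidHom.mem_ker.mpr (Units.ext ?_)⟩, e⟩
  rw [GeneralLinearGroup.val_det_apply, e, det_mK hp hσ hr, hd, el_one hp hσ, Units.val_one]

theorem isU_of_mem {X : M3} {g : GL (Fin 3) K} (hg : g ∈ GU 3 K p) (e : mK p r X = (g : Matrix (Fin 3) (Fin 3) K)) :
    isU p X := isU_of_gram hp hσ hr (by rw [e]; exact mem_GU_iff.mp hg)

omit hp hσ hr in
theorem det_of_mem {g : GL (Fin 3) K} (hg : g ∈ suGL 3 K p) : (g : Matrix (Fin 3) (Fin 3) K).det = 1 := by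
  have := congrArg Units.val (MonoidHom.mem_ker.mp hg.2)
  simpa using this

theorem dm_of_mem {X : M3} {g : GL (Fin 3) K} (hg : g ∈ suGL 3 K p) (e : mK p r X = (g : Matrix (Fin 3) (Fin 3) K)) :
    dm p X = 1 :=
  el_inj hp hσ hr (ad_lt hp.pos _ _) (by rcases hp with rfl | rfl <;> norm_num)
    (by rw [← det_mK hp hσ hr, e, det_of_mem hg, el_one hp hσ])

omit hp hσ hr in
theorem conj_mem {k g : GL (Fin 3) K} (hk : k ∈ GU 3 K p) (hg : g ∈ suGL 3 K p) : k * g * k⁻¹ ∈ suGL 3 K p :=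
  ⟨(GU 3 K p).mul_mem ((GU 3 K p).mul_mem hk hg.1) ((GU 3 K p).inv_mem hk),
    (inferInstance : (Matrix.GeneralLinearGroup.det : GL (Fin 3) K →* Kˣ).ker.Normal).conj_mem g hg.2 k⟩

omit hp hσ hr in
theorem conj_mem' {k g : GL (Fin 3) K} (hk : k ∈ GU 3 K p) (hg : g ∈ suGL 3 K p) : k⁻¹ * g * k ∈ suGL 3 K p := by
  simpa using conj_mem (inv_mem hk) hg

/-- A maximal subgroup cannot stabilise the set, if the stabiliser is larger. -/
theorem not_max {mask : ℕ} {O : List V3} {e z : M3} (hcase : caseOK p mask O e z) {H : Subgroup (GL (Fin 3) K)}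
    (hH : IsMaximalIn (suGL 3 K p) H) {k : GL (Fin 3) K} (hk : k ∈ GU 3 K p)
    (hall : ∀ h ∈ H, ∃ (X : M3) (c : K), c ≠ 0 ∧ maps p mask O X ∧
      mK p r X = c • ((k⁻¹ * h * k : GL (Fin 3) K) : Matrix (Fin 3) (Fin 3) K))
    (hex : ∀ g : GL (Fin 3) K, g ∈ suGL 3 K p → (g : Matrix (Fin 3) (Fin 3) K) = mK p r e → k * g * k⁻¹ ∉ H) :
    False := by
  obtain ⟨-, hOm, ⟨-, heU, hed, hemaps⟩, -, hzU, hzd, hzmoves⟩ := hcase
  obtain ⟨g, hg, hge⟩ := exists_suGL hp hσ hr heU hed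
  obtain ⟨g', hg', hgz⟩ := exists_suGL hp hσ hr hzU hzd
  refine hex g hg hge ?_
  rw [eq_inf_of_maximal' (X := (setStab (pointSet p r O)).map (MulAut.conj k).toMonoidHom) hH (fun h hh => ?_)
    fun hle => ?_]
  · exact ⟨⟨g, maps_pointSet hp hσ hr hOm hemaps one_ne_zero (by rw [one_smul, hge]), rfl⟩, conj_mem hk hg⟩
  · obtain ⟨X, c, hc, hX, he⟩ := hall h hh
    exact ⟨k⁻¹ * h * k, maps_pointSet hp hσ hr hOm hX hc he, by simp [mul_assoc]⟩
  · obtain ⟨x, hx, hxe⟩ := hle (conj_mem hk hg')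
    obtain rfl : x = g' := (MulAut.conj k).injective hxe
    exact not_mem_of_moves hp hσ hr hzmoves hgz hx

/-- The scalar multiples of a unitary matrix of determinant one by elements of norm one. -/
theorem exists_scaled {g : GL (Fin 3) K} (hg : g ∈ suGL 3 K p) {n1 cub : List ℕ}
    (hn1 : ∀ x ∈ n1, x < p * p ∧ ml p x (cj p x) = 1) (hcub : ∀ c ∈ n1, ml p (ml p c c) c ∈ cub)
    {c : ℕ} (hc : c ∈ n1) : ∃ X, okM p X ∧ isU p X ∧ dm p X ∈ cub ∧ el p r c ≠ 0 ∧
      mK p r X = el p r c • (g : Matrix (Fin 3) (Fin 3) K) := by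
  obtain ⟨hcp, hcn⟩ := hn1 c hc
  have hnorm : el p r c * σ (el p r c) = 1 := by rw [← el_cj hp hσ hr, ← el_ml hp hσ hr, hcn, el_one hp hσ]
  obtain ⟨X, hX, he⟩ := exists_mK hp hσ hr (el p r c • (g : Matrix (Fin 3) (Fin 3) K))
  refine ⟨X, hX, isU_of_gram hp hσ hr (fun a b => ?_), ?_, left_ne_zero_of_mul_eq_one hnorm, he⟩
  · rw [he, smul_mulVec, smul_mulVec, hσ.isUnitaryForm.smul_left, hσ.isUnitaryForm.herm,
      hσ.isUnitaryForm.smul_left, map_mul, ← hσ.isUnitaryForm.herm, ← mul_assoc, hnorm, one_mul]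
    exact mem_GU_iff.mp hg.1 a b
  · have : dm p X = ml p (ml p c c) c := el_inj hp hσ hr (ad_lt hp.pos _ _) (ml_lt hp.pos _ _) (by
      rw [← det_mK hp hσ hr, he, det_smul, det_of_mem hg, el_ml hp hσ hr, el_ml hp hσ hr, Fintype.card_fin, mul_one]
      ring)
    rw [this]
    exact hcub c hc

omit hσ hr in
/-- Scaling a vector into the list of candidates. -/
theorem exists_cand {n1 rep : List ℕ}
    (hrep : (∀ a < p * p, a ≠ 0 → ∃ c ∈ n1, ml p c a ∈ rep) ∧ ∀ a ∈ rep, a ≠ 0) {v : V3} (hv : okV p v)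
    (hv0 : lead v ≠ 0) : ∃ c ∈ n1, sc p c v ∈ cands (p * p) rep := by
  obtain ⟨h1, h2, h3⟩ := hv
  have hml : ∀ c : ℕ, ml p c 0 = 0 := fun c => by simp [ml, force_eq]
  have hlt : lead v < p * p := by unfold lead; split_ifs <;> assumption
  obtain ⟨c, hc, hm⟩ := hrep.1 _ hlt hv0
  refine ⟨c, hc, ?_⟩
  have hl1 := ml_lt hp.pos c v.2.1
  have hl2 := ml_lt hp.pos c v.2.2
  rcases eq_or_ne v.1 0 with e1 | e1
  · rcases eq_or_ne v.2.1 0 with e2 | e2
    · rw [show lead v = v.2.2 by simp [lead, e1, e2]] at hm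
      simp [cands, sc, e1, e2, hml, hm]
    · rw [show lead v = v.2.1 by simp [lead, e1, e2]] at hm
      simp [cands, sc, e1, hml, hm, hl2]
  · rw [show lead v = v.1 by simp [lead, e1]] at hm
    simp [cands, sc, hm, hl1, hl2]

end Cfsg.Agent.Classical.SUThree
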