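import Cfsg.Agent.Lib.Classical.SUThreeSmall.Seven
import Cfsg.Agent.Lib.Classical.SymplecticClassTwo

/-!
# The group of symplectic type over the field with twenty-five elements
-/

set_option autoImplicit false
set_option linter.unusedSectionVars false
set_option linter.style.haveILetI false
set_option maxHeartbeats 400000

namespace Cfsg.Agent.Classical.SUThree

open Matrix Cfsg.Geo

variable {K : Type*} [Field K] [Fintype K] {σ : K ≃+* K}

/-- A symplectic type group of order twenty-seven of unitary similitudes lies in the special unitary group. -/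
theorem symType_le (hσ : IsUSigma 5 σ) {R : Subgroup (GL (Fin 3) K)} (hR : IsSymplecticTypeGroup 3 R)
    (hirr : ActsAbsolutelyIrreducibly (matrixSet R)) (hsim : R ≤ similarityGroup (hermForm 3 K 5))
    (hz : Nat.card (Subgroup.center R) = 3) (hc : Nat.card R = 27) : R ≤ suGL 3 K 5 := by
  classical
  have h3 : ∀ g ∈ R, g ^ 3 = 1 := fun g hg => by
    have h : Monoid.exponent R = 3 := hR.exponent_eq.trans (by norm_num)
    have := Monoid.pow_exponent_eq_one (⟨g, hg⟩ : R)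
    rw [h] at this
    exact congrArg Subtype.val this
  have h3K : (3 : K) ≠ 0 := by
    intro h0
    have h5 := p_zero (Or.inr rfl) hσ
    push_cast at h5
    exact one_ne_zero (α := K) (by linear_combination 2 * h0 - h5)
  intro g hg
  have hg3 : (g : Matrix (Fin 3) (Fin 3) K) ^ 3 = 1 := by
    rw [← Units.val_pow_eq_pow_val, h3 g hg, Units.val_one]
  have hGU : g ∈ GU 3 K 5 := by
    obtain ⟨c, hcg⟩ := hsim hg
    refine mem_GU_iff.mpr fun u v => ?_
    have hc1 : (c : K) = 1 := by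
      have hs : ∀ u v, hermForm 3 K 5 u v = (c : K) ^ 3 * hermForm 3 K 5 u v := fun u v => by
        have e : (g : Matrix (Fin 3) (Fin 3) K) *ᵥ ((g : Matrix (Fin 3) (Fin 3) K) *ᵥ
            ((g : Matrix (Fin 3) (Fin 3) K) *ᵥ u)) = u := by
          rw [mulVec_mulVec, mulVec_mulVec, ← pow_two, ← pow_succ, hg3, one_mulVec]
        have e' : (g : Matrix (Fin 3) (Fin 3) K) *ᵥ ((g : Matrix (Fin 3) (Fin 3) K) *ᵥ
            ((g : Matrix (Fin 3) (Fin 3) K) *ᵥ v)) = v := by
          rw [mulVec_mulVec, mulVec_mulVec, ← pow_two, ← pow_succ, hg3, one_mulVec]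
        conv_lhs => rw [← e, ← e', hcg, hcg, hcg]
        ring
      have h1 := hs (Pi.single 0 1) (Pi.single 0 1)
      rw [hσ.hermForm_single, one_mul] at h1
      simp at h1
      have hfix := hσ.isUnitaryForm.herm ((g : Matrix (Fin 3) (Fin 3) K) *ᵥ Pi.single 0 1)
        ((g : Matrix (Fin 3) (Fin 3) K) *ᵥ Pi.single 0 1)
      rw [hcg, hσ.hermForm_single, one_mul] at hfix
      simp [hσ.apply_eq] at hfix
      linear_combination (-(c : K) ^ 2) * hfix + ((c : K) ^ 4 + (c : K) - 1) * h1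
    rw [hcg, hc1, one_mul]
  refine ⟨hGU, MonoidHom.mem_ker.mpr (Units.ext ?_)⟩
  rw [GeneralLinearGroup.val_det_apply, Units.val_one]
  have hscal : ∀ {x : GL (Fin 3) K}, x ∈ scalars (Fin 3) K →
      ∃ t : K, (x : Matrix (Fin 3) (Fin 3) K) = t • 1 := by
    rintro x ⟨u, rfl⟩
    exact ⟨u, by ext i j; simp [Matrix.one_apply, Matrix.diagonal]⟩
  by_cases hcen : ∀ x ∈ R, x * g = g * x
  · obtain ⟨t, ht⟩ := hscal (mem_scalars_of_absIrr hirr fun y hy => (hcen y hy).symm)
    rw [ht, det_smul, det_one, mul_one, Fintype.card_fin]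
    have := congrFun (congrFun hg3 0) 0
    rw [ht, smul_pow, one_pow] at this
    simpa using this
  · push_neg at hcen
    obtain ⟨x, hx, hne⟩ := hcen
    obtain ⟨t, ht⟩ := hscal (symplecticTypeGroup_comm hR hirr x hx g hg)
    set A := (g : Matrix (Fin 3) (Fin 3) K) with hA
    have hconj : (x : Matrix (Fin 3) (Fin 3) K) * A * ((x⁻¹ : GL (Fin 3) K) : Matrix (Fin 3) (Fin 3) K) = t • A := by
      rw [hA, ← Units.val_mul, ← Units.val_mul, show x * g * x⁻¹ = x * g * x⁻¹ * g⁻¹ * g by group, Units.val_mul, ht,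
        smul_mul_assoc, one_mul]
    have ht1 : t ≠ 1 := fun h1 => hne (mul_inv_eq_iff_eq_mul.mp (Units.ext (by
      rw [Units.val_mul, Units.val_mul, hconj, h1, one_smul])))
    have htr : A.trace = 0 := by
      have h := congrArg Matrix.trace hconj
      rw [trace_mul_comm, ← mul_assoc, ← Units.val_mul, inv_mul_cancel, Units.val_one, one_mul, trace_smul,
        smul_eq_mul] at h
      exact (mul_eq_zero.mp (show (t - 1) * A.trace = 0 by linear_combination -h)).resolve_left (sub_ne_zero.mpr ht1)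
    have hd0 : A.det ≠ 0 := ((Matrix.isUnit_iff_isUnit_det _).mp g.isUnit).ne_zero
    have ht3 : t ^ 3 = 1 := by
      have h := congrArg Matrix.det hconj
      rw [det_mul, det_mul, det_smul, Fintype.card_fin, mul_comm, ← mul_assoc, ← det_mul, ← Units.val_mul,
        inv_mul_cancel, Units.val_one, det_one, one_mul] at h
      exact (mul_left_eq_self₀.mp h.symm).resolve_right hd0
    have htr2 : (A * A).trace = 0 := by
      have h := congrArg Matrix.trace (show (x : Matrix (Fin 3) (Fin 3) K) * (A * A) *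
          ((x⁻¹ : GL (Fin 3) K) : Matrix (Fin 3) (Fin 3) K) = (t * t) • (A * A) from by
        rw [← smul_smul, ← mul_smul_comm t A A, ← smul_mul_assoc t A, ← hconj]
        simp only [mul_assoc]
        rw [← mul_assoc _ (x : Matrix (Fin 3) (Fin 3) K), x.inv_mul, one_mul])
      rw [trace_mul_comm, ← mul_assoc, ← Units.val_mul, inv_mul_cancel, Units.val_one, one_mul, trace_smul,
        smul_eq_mul] at h
      have ht2 : t * t ≠ 1 := fun h2 => ht1 (by linear_combination t * (-h2) + ht3)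
      exact (mul_eq_zero.mp (show (t * t - 1) * (A * A).trace = 0 by linear_combination -h)).resolve_left
        (sub_ne_zero.mpr ht2)
    have htr3 : (A * A * A).trace = 3 := by
      rw [← pow_two, ← pow_succ, hA, hg3, trace_one, Fintype.card_fin, Nat.cast_ofNat]
    rw [Matrix.det_fin_three]
    simp only [Matrix.trace_fin_three, Matrix.mul_apply, Fin.sum_univ_three] at htr htr2 htr3
    have h6 : (6 : K) ≠ 0 := by
      intro h0
      have h5 := p_zero (Or.inr rfl) hσ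
      push_cast at h5
      exact one_ne_zero (α := K) (by linear_combination h0 - h5)
    refine mul_left_cancel₀ h6 ?_
    linear_combination 2 * htr3 + ((A 0 0 + A 1 1 + A 2 2) ^ 2) * htr - 3 * (A 0 0 + A 1 1 + A 2 2) * htr2

/-- The normaliser of a symplectic type group is not maximal over the field with twenty-five elements. -/
theorem symType_five (hσ : IsUSigma 5 σ) {H : Subgroup (GL (Fin 3) K)} (hH : IsMaximalIn (suGL 3 K 5) H)
    {R : Subgroup (GL (Fin 3) K)} (hR : IsSymplecticTypeGroup 3 R)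
    (hirr : ActsAbsolutelyIrreducibly (matrixSet R)) (hsim : R ≤ similarityGroup (hermForm 3 K 5))
    (hz : Nat.card (Subgroup.center R) = 3) (hc : Nat.card R = 27)
    (h : H = subgroupNormalizer R ⊓ suGL 3 K 5) : False := by
  classical
  have hp : Small 5 := Or.inr rfl
  obtain ⟨r, hr⟩ := exists_root hp hσ
  obtain ⟨hlen, hnd, hI, hX, hdmem, hcmem, hdne, hd0, hc0, hc1, hexc⟩ := grp_five
  let B₀ : Submonoid (GL (Fin 3) K) :=
    { carrier := {g | ∃ X ∈ grpFive, (g : Matrix (Fin 3) (Fin 3) K) = mK 5 r X}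
      one_mem' := ⟨I3, hI, by rw [Units.val_one, mK_one hp hσ hr]⟩
      mul_mem' := by
        rintro a b ⟨X, hXm, ha⟩ ⟨Y, hYm, hb⟩
        exact ⟨mm 5 X Y, (hX X hXm).2.2.2 Y hYm, by rw [Units.val_mul, ha, hb, mK_mul hp hσ hr]⟩ }
  let B : Subgroup (GL (Fin 3) K) :=
    { toSubmonoid := B₀
      inv_mem' := fun {g} hg => by
        have h1 : g⁻¹ = g ^ (orderOf g - 1) := inv_eq_of_mul_eq_one_right (by
          rw [← pow_succ', Nat.sub_add_cancel (orderOf_pos g), pow_orderOf_eq_one])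
        show g⁻¹ ∈ B₀
        rw [h1]; exact B₀.pow_mem hg _ }
  have hBle : B ≤ suGL 3 K 5 := by
    rintro g ⟨X, hXm, hg⟩
    obtain ⟨g', hg', he⟩ := exists_suGL hp hσ hr (hX X hXm).2.1 (hX X hXm).2.2.1
    rwa [show g = g' from Units.ext (hg.trans he.symm)]
  choose gl hgl hgle using fun X : {X // X ∈ grpFive} =>
    exists_suGL hp hσ hr (hX X.1 X.2).2.1 (hX X.1 X.2).2.2.1
  have hcB : Nat.card B = 27 := by
    have : Nat.card {X // X ∈ grpFive} = Nat.card B := Nat.card_congr (Equiv.ofBijective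
      (fun X => (⟨gl X, X.1, X.2, hgle X⟩ : B)) ⟨fun X Y e => Subtype.ext (mK_inj hp hσ hr (hX X.1 X.2).1 (hX Y.1 Y.2).1
        (by rw [← hgle X, ← hgle Y]; exact congrArg (fun g : B => ((g : GL (Fin 3) K) : Matrix (Fin 3) (Fin 3) K)) e)),
        fun g => by
          obtain ⟨X, hXm, hg⟩ := g.2
          exact ⟨⟨X, hXm⟩, Subtype.ext (Units.ext ((hgle _).trans hg.symm))⟩⟩)
    rw [← this, Nat.card_eq_fintype_card, Fintype.card_of_subtype grpFive.toFinset (fun x => List.mem_toFinset),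
      List.toFinset_card_of_nodup hnd, hlen]
  obtain ⟨k, hk, hkiff⟩ := exists_conj_full (A := R) (B := B) (symType_le hσ hR hirr hsim hz hc) hBle (ℓ := 3) (a := 3)
    Nat.prime_three (by rw [hc]; norm_num) (by rw [hcB]; norm_num) (by rw [card_suGL_five hσ]; norm_num)
  have hnorm : ∀ h' ∈ H, ∀ X ∈ grpFive, ∃ Y ∈ grpFive,
      ((k⁻¹ * h' * k : GL (Fin 3) K) : Matrix (Fin 3) (Fin 3) K) * mK 5 r X =
        mK 5 r Y * ((k⁻¹ * h' * k : GL (Fin 3) K) : Matrix (Fin 3) (Fin 3) K) := by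
    intro h' hh' X hXm
    have hN : h' ∈ subgroupNormalizer R := ((h ▸ hh' : h' ∈ subgroupNormalizer R ⊓ suGL 3 K 5)).1
    have hmem : k * gl ⟨X, hXm⟩ * k⁻¹ ∈ R := (hkiff _).mpr (by
      rw [show k⁻¹ * (k * gl ⟨X, hXm⟩ * k⁻¹) * k = gl ⟨X, hXm⟩ by group]; exact ⟨X, hXm, hgle _⟩)
    have hmem2 := (hkiff _).mp ((Subgroup.mem_normalizer_iff.mp hN _).mp hmem)
    obtain ⟨Y, hYm, hY⟩ := hmem2
    refine ⟨Y, hYm, ?_⟩
    rw [← hY, ← hgle ⟨X, hXm⟩, ← Units.val_mul, ← Units.val_mul]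
    congr 1
    group
  refine not_max hp hσ hr sym_case hH hk.1 (fun h' hh' => ?_) (fun g hg hge hmem => ?_)
  · have ht : k⁻¹ * h' * k ∈ suGL 3 K 5 := conj_mem' hk.1 (hH.1.le hh')
    obtain ⟨D, hDm, hD⟩ := hnorm h' hh' dFive hdmem
    obtain ⟨C, hCm, hC⟩ := hnorm h' hh' cFive hcmem
    set t : GL (Fin 3) K := k⁻¹ * h' * k
    obtain ⟨X₀, hX₀, hX₀e⟩ := exists_mK hp hσ hr (t : Matrix (Fin 3) (Fin 3) K)
    have hU₀ := isU_of_mem hp hσ hr ht.1 hX₀e
    have hlead : lead X₀.1 ≠ 0 := by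
      intro h0
      have h1 := hU₀.1
      obtain ⟨a, b, c⟩ : X₀.1.1 = 0 ∧ X₀.1.2.1 = 0 ∧ X₀.1.2.2 = 0 := by
        unfold lead at h0; split_ifs at h0 <;> exact ⟨by omega, by omega, by omega⟩
      rw [show X₀.1 = (0, 0, 0) from Prod.ext a (Prod.ext b c)] at h1
      exact absurd h1 (by decide)
    obtain ⟨c, hc, hcand⟩ := exists_cand hp rep_five hX₀.1 hlead
    obtain ⟨X, hXok, hXU, hXd, hcne, hXe⟩ := exists_scaled hp hσ hr ht n1_five' cub_five hc
    refine ⟨X, _, hcne, ?_, hXe⟩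
    have hcommD : mK 5 r X * mK 5 r dFive = mK 5 r D * mK 5 r X := by rw [hXe, smul_mul_assoc, hD, mul_smul_comm]
    have hcommC : mK 5 r X * mK 5 r cFive = mK 5 r C * mK 5 r X := by rw [hXe, smul_mul_assoc, hC, mul_smul_comm]
    obtain ⟨e0, e1, e2⟩ := col_eq hp hσ hr (rfl : mK 5 r X = mK 5 r X)
    obtain ⟨e0', -, -⟩ := col_eq hp hσ hr hX₀e
    have hv : X.1 = sc 5 c X₀.1 := vK_inj hp hσ hr hXok.1 (sc_ok hp.pos _ _) (by
      rw [e0, vK_sc hp hσ hr, e0', hXe, smul_mulVec])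
    have hone : ∀ {v : V3} {i : Fin 3}, v = (![(1, 0, 0), (0, 1, 0), (0, 0, 1)] : Fin 3 → V3) i →
        vK 5 r v = Pi.single i 1 := by
      intro v i e
      subst e
      funext l; fin_cases i <;> fin_cases l <;> simp [vK, el_one hp hσ, el_zero]
    have step : ∀ {Y Z : M3} {u w : V3}, mK 5 r X * mK 5 r Y = mK 5 r Z * mK 5 r X → mv 5 Y u = w →
        mK 5 r X *ᵥ vK 5 r w = mK 5 r Z *ᵥ (mK 5 r X *ᵥ vK 5 r u) := by
      intro Y Z u w hcomm e
      rw [← e, ← mK_mulVec hp hσ hr, mulVec_mulVec, hcomm, ← mulVec_mulVec]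
    have k0 : mv 5 D X.1 = X.1 := vK_inj hp hσ hr (mv_ok hp.pos _ _) hXok.1 (by
      rw [← mK_mulVec hp hσ hr, e0, ← hone (v := (1, 0, 0)) (i := 0) rfl, ← step hcommD hd0])
    have k1 : mv 5 C X.1 = X.2.1 := vK_inj hp hσ hr (mv_ok hp.pos _ _) hXok.2.1 (by
      rw [← mK_mulVec hp hσ hr, e0, e1, ← hone (v := (1, 0, 0)) (i := 0) rfl, ← hone (v := (0, 1, 0)) (i := 1) rfl, ← step hcommC hc0])
    have k2 : mv 5 C X.2.1 = X.2.2 := vK_inj hp hσ hr (mv_ok hp.pos _ _) hXok.2.2 (by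
      rw [← mK_mulVec hp hσ hr, e1, e2, ← hone (v := (0, 1, 0)) (i := 1) rfl, ← hone (v := (0, 0, 1)) (i := 2) rfl, ← step hcommC hc1])
    have hXeq : X = (X.1, mv 5 C X.1, mv 5 C (mv 5 C X.1)) := by rw [k1, k2]
    have hdt : dt 5 X.1 X.1 = 1 := hXU.1
    rw [hXeq] at hXU hXd ⊢
    rw [hv] at hXU hXd hdt k0 ⊢
    have hDI : D ≠ I3 := by
      intro e
      refine hdne (mK_inj hp hσ hr (hX _ hdmem).1 (hX _ hI).1 ?_)
      rw [e, mK_one hp hσ hr, one_mul] at hD
      rw [mK_one hp hσ hr]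
      exact t.isUnit.mul_left_cancel (by rw [hD, mul_one])
    exact sym_check _ hcand hdt D hDm hDI k0 C hCm hXU hXd
  · obtain ⟨D, hDm, hD⟩ := hnorm _ hmem dFive hdmem
    rw [show k⁻¹ * (k * g * k⁻¹) * k = g by group, hge, ← mK_mul hp hσ hr, ← mK_mul hp hσ hr] at hD
    exact hexc D hDm (mK_inj hp hσ hr (mm_ok hp.pos _ _) (mm_ok hp.pos _ _) hD)

end Cfsg.Agent.Classical.SUThree
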